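import Cfsg.Agent.Lib.Recog.TwoTimesAlt.FourCount
import Cfsg.Agent.Lib.LocalEven.Generation
import Cfsg.Agent.Lib.Classical.EightAutomizer
import Cfsg.Agent.Lib.Char.Burnside
import Cfsg.Agent.Lib.Fusion.TwoTypes.PGLTwo
import Cfsg.Agent.S1011
import Cfsg.Agent.S0813

/-!
Owner: helper1. Centraliser `Z₂ × A₄`: the group is the automorphism group of `PSL(2, 8)`.
-/

set_option autoImplicit false

namespace CfsgLib.Recog.TwoTimesAlt

open Subgroup
open CfsgLib.Recog.JanType (exists_conj_into conj_mem_of_le)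

namespace Four

variable {G : Type*} [Group G] [Finite G] (D : Four G) (hns : ¬ Group.IsSolvable G)

theorem solvable_H : Group.IsSolvable D.H := by
  have hc : Nat.card (D.H ⧸ D.E.subgroupOf D.H) = 21 := by
    have h := Subgroup.card_eq_card_quotient_mul_card_subgroup (D.E.subgroupOf D.H)
    rw [D.card_H, Nat.card_congr (subgroupOfEquivOfLe D.E_le_H).toEquiv, D.card_E] at h
    omega
  have hN : (D.E.subgroupOf D.H).Normal :=
    ⟨fun x hx h => mem_subgroupOf.2 ((mem_normalizer_iff.1 h.2 (x : G)).1 (mem_subgroupOf.1 hx))⟩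
  have : IsZGroup (D.H ⧸ D.E.subgroupOf D.H) := IsZGroup.of_squarefree (by
    rw [hc, Nat.squarefree_iff_nodup_primeFactorsList (by norm_num)]
    simp)
  have : Group.IsSolvable (D.E.subgroupOf D.H) := Group.isSolvable_of_comm fun a b =>
    Subtype.ext (Subtype.ext (D.E_comm (mem_subgroupOf.1 a.2) (mem_subgroupOf.1 b.2)))
  exact Group.isSolvable_of_ker_le_range (D.E.subgroupOf D.H).subtype (QuotientGroup.mk' (D.E.subgroupOf D.H))
    (by rw [QuotientGroup.ker_mk', Subgroup.range_subtype])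

/-- A subgroup of odd order normalised by `E` is trivial. -/
theorem odd_trivial {K : Subgroup G} (hK : D.E ≤ normalizer (K : Set G)) (ho : ¬ 2 ∣ Nat.card K) : K = ⊥ := by
  have : Fact (Nat.Prime 2) := ⟨Nat.prime_two⟩
  have : IsMulCommutative D.E := ⟨⟨fun a b => Subtype.ext (D.E_comm a.2 b.2)⟩⟩
  have hKH : K ≤ D.H := LocalEven.le_of_centralizers_le (p := 2) (A := D.E)
    (fun a ha => by rw [pow_two]; exact D.E_sq ha) (by rw [D.card_E]; norm_num) hK ho
    fun a ha ha1 => inf_le_right.trans (D.cent_le_H ha ha1)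
  refine (eq_bot_iff_forall K).2 fun k hk => ?_
  have hodd : ∀ x ∈ K, x ∈ D.E → x = 1 := fun x hx hxE => by
    by_contra h1
    refine ho ?_
    rw [← D.orderOf_mem_E hxE h1]
    exact Subgroup.orderOf_dvd_natCard _ hx
  refine hodd k hk (D.cent_E_le fun y hy => ?_)
  have h1 : k * y * k⁻¹ * y⁻¹ ∈ D.E :=
    mul_mem ((mem_normalizer_iff.1 (hKH hk) y).1 hy) (inv_mem hy)
  have h2 : k * (y * k⁻¹ * y⁻¹) ∈ K := mul_mem hk ((mem_normalizer_iff.1 (hK hy) k⁻¹).1 (inv_mem hk))
  have h3 := hodd _ h2 (by rwa [show k * (y * k⁻¹ * y⁻¹) = k * y * k⁻¹ * y⁻¹ by group])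
  exact mul_inv_eq_iff_eq_mul.1
    (mul_inv_eq_one.1 (by rwa [show k * y * k⁻¹ * y⁻¹ = k * (y * k⁻¹ * y⁻¹) by group]))

/-- The subgroup generated by the involutions. -/
def L : Subgroup G := normalClosure ({D.J} : Set G)

instance L_normal : D.L.Normal := normalClosure_normal

theorem mem_L {x : G} (hx : orderOf x = 2) : x ∈ D.L := by
  obtain ⟨c, rfl⟩ := D.conj_J hx
  exact D.L_normal.conj_mem _ (subset_normalClosure (Set.mem_singleton D.J)) c

theorem E_le_L : D.E ≤ D.L := fun x hx => by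
  by_cases h1 : x = 1
  · rw [h1]; exact one_mem _
  · exact D.mem_L (D.orderOf_mem_E hx h1)

theorem exists_L_mul (a : G) : ∃ c ∈ D.L, c * a ∈ D.H := by
  have hA : IsPGroup 2 (D.E.map (MulAut.conj a).toMonoidHom) := D.E_isPGroup.map _
  obtain ⟨c, hc, hcS⟩ := exists_conj_into (Y := D.L) D.P hA
    (by rintro _ ⟨x, hx, rfl⟩; exact D.L_normal.conj_mem x (D.E_le_L hx) a) (by rw [D.P_eq]; exact D.E_le_L)
  refine ⟨c, hc, conj_mem_of_le fun x hx => ?_⟩
  have h := hcS _ ⟨x, hx, rfl⟩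
  rw [D.P_eq] at h
  convert h using 1
  simp [mul_assoc]

include D hns in
theorem card_G : Nat.card G = 1512 := by
  rw [← Subgroup.index_mul_card D.H, D.index_H hns, D.card_H]

/-- `H` covers `G / L`. -/
theorem proj_surjective : Function.Surjective ((QuotientGroup.mk' D.L).comp D.H.subtype) := fun q => by
  induction q using QuotientGroup.induction_on with
  | _ a =>
    obtain ⟨c, hc, hca⟩ := D.exists_L_mul a
    refine ⟨⟨c * a, hca⟩, QuotientGroup.eq.2 ?_⟩
    show (c * a)⁻¹ * a ∈ D.L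
    have h := D.L_normal.conj_mem _ (inv_mem hc) a⁻¹
    simpa [mul_assoc] using h

include hns in
theorem card_L : Nat.card D.L = 9 * Nat.card ↥(D.H ⊓ D.L) := by
  set ψ : D.H →* G ⧸ D.L := (QuotientGroup.mk' D.L).comp D.H.subtype
  have hψ : Function.Surjective ψ := D.proj_surjective
  have hker : ψ.ker = D.L.subgroupOf D.H := by
    ext x
    rw [MonoidHom.mem_ker, mem_subgroupOf]
    exact QuotientGroup.eq_one_iff _
  have h1 : Nat.card D.H = Nat.card (G ⧸ D.L) * Nat.card ↥(D.H ⊓ D.L) := by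
    rw [Subgroup.card_eq_card_quotient_mul_card_subgroup ψ.ker,
      Nat.card_congr (QuotientGroup.quotientKerEquivOfSurjective ψ hψ).toEquiv, hker,
      ← card_map_of_injective (K := D.L.subgroupOf D.H) (subtype_injective D.H), Subgroup.subgroupOf_map_subtype,
      inf_comm]
  have h2 := Subgroup.card_eq_card_quotient_mul_card_subgroup D.L
  rw [D.card_G hns] at h2
  rw [D.card_H] at h1
  have h3 : Nat.card (G ⧸ D.L) * Nat.card D.L = Nat.card (G ⧸ D.L) * (9 * Nat.card ↥(D.H ⊓ D.L)) := by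
    rw [← h2, mul_left_comm, ← h1]
    norm_num
  exact Nat.eq_of_mul_eq_mul_left Nat.card_pos h3

include hns in
theorem seven_dvd : 7 ∣ Nat.card ↥(D.H ⊓ D.L) := by
  by_contra h7
  have hdvd : Nat.card ↥(D.H ⊓ D.L) ∣ 2 ^ 3 * 3 ^ 1 := by
    have h := Subgroup.card_dvd_of_le (inf_le_left : D.H ⊓ D.L ≤ D.H)
    rw [D.card_H] at h
    exact (((show Nat.Prime 7 by norm_num).coprime_iff_not_dvd.2 h7).symm).dvd_of_dvd_mul_right
      (show _ ∣ 24 * 7 from h)
  obtain ⟨a, b, ha, hb, hab⟩ := Nat.dvd_mul.1 hdvd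
  obtain ⟨i, -, rfl⟩ := (Nat.dvd_prime_pow Nat.prime_two).1 ha
  obtain ⟨j, -, rfl⟩ := (Nat.dvd_prime_pow Nat.prime_three).1 hb
  have : Group.IsSolvable D.L := CfsgLib.Burnside.isSolvable_of_card_eq (a := i) (b := j + 2) Nat.prime_two
    Nat.prime_three (by rw [D.card_L hns, ← hab, pow_add]; ring)
  set ψ : D.H →* G ⧸ D.L := (QuotientGroup.mk' D.L).comp D.H.subtype
  have hψ : Function.Surjective ψ := D.proj_surjective
  have := D.solvable_H
  have : Group.IsSolvable (G ⧸ D.L) := Group.isSolvable_of_surjective hψ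
  exact hns (Group.isSolvable_of_ker_le_range D.L.subtype (QuotientGroup.mk' D.L)
    (by rw [QuotientGroup.ker_mk', Subgroup.range_subtype]))

include hns in
theorem le_of_normalised {K : Subgroup G} (hn : D.L ≤ normalizer (K : Set G)) (hK : K ≠ ⊥) :
    D.L ≤ K := by
  classical
  have : Fact (Nat.Prime 2) := ⟨Nat.prime_two⟩
  have : Fact (Nat.Prime 7) := ⟨by norm_num⟩
  have heven : 2 ∣ Nat.card K := by
    by_contra h
    exact hK (D.odd_trivial (D.E_le_L.trans hn) h)
  have hconj : ∀ j : G, orderOf j = 2 → ∃ c ∈ D.L, c * j * c⁻¹ ∈ D.E := fun j hj => by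
    obtain ⟨c, hc, hcS⟩ := exists_conj_into (Y := D.L) D.P
      (IsPGroup.of_card (n := 1) (by rw [Nat.card_zpowers, hj, pow_one]) : IsPGroup 2 (zpowers j))
      (zpowers_le.2 (D.mem_L hj)) (by rw [D.P_eq]; exact D.E_le_L)
    exact ⟨c, hc, D.P_eq ▸ hcS j (mem_zpowers j)⟩
  obtain ⟨i, hi⟩ := exists_prime_orderOf_dvd_card' 2 heven
  rw [← Subgroup.orderOf_coe] at hi
  obtain ⟨c, hc, hcE⟩ := hconj i hi
  set v := c * (i : G) * c⁻¹ with hv
  have hvK : v ∈ K := (mem_normalizer_iff.1 (hn hc) (i : G)).1 i.2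
  have hv2 : orderOf v = 2 := (CfsgLib.Signalizer.orderOf_conj c (i : G)).trans hi
  obtain ⟨p, hp⟩ := exists_prime_orderOf_dvd_card' 7 (D.seven_dvd hns)
  rw [← Subgroup.orderOf_coe] at hp
  obtain ⟨hpH, hpL⟩ := Subgroup.mem_inf.1 p.2
  set X : Set G := {x | ∃ y ∈ zpowers (p : G), y * v * y⁻¹ = x} with hX
  have hcard := card_orbit (zpowers (p : G)) v X fun _ => Iff.rfl
  have htriv : zpowers (p : G) ⊓ centralizer ({v} : Set G) = ⊥ := by
    refine (eq_bot_iff_forall _).2 fun x hx => ?_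
    obtain ⟨hx1, hx2⟩ := Subgroup.mem_inf.1 hx
    by_contra h1
    refine D.not_commute (p := x) ?_ hv2 (mem_centralizer_singleton_iff.1 hx2)
    have h := orderOf_dvd_of_mem_zpowers hx1
    rw [hp] at h
    exact ((Nat.dvd_prime (by norm_num)).1 h).resolve_left fun h' => h1 (orderOf_eq_one_iff.1 h')
  rw [htriv, card_bot, mul_one, Nat.card_zpowers, hp, Nat.card_coe_set_eq] at hcard
  have hsub : X ⊆ {x : G | x ∈ D.E ∧ x ≠ 1} ∩ (K : Set G) := by
    rintro x ⟨y, hy, rfl⟩
    have hyH : y ∈ D.H := zpowers_le.2 hpH hy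
    have hyL : y ∈ D.L := zpowers_le.2 hpL hy
    refine ⟨⟨(mem_normalizer_iff.1 hyH v).1 hcE, fun h => ?_⟩, (mem_normalizer_iff.1 (hn hyL) v).1 hvK⟩
    rw [conj_eq_one_iff.1 h, orderOf_one] at hv2
    norm_num at hv2
  have h7 : ({x : G | x ∈ D.E ∧ x ≠ 1}).ncard = 7 := by
    rw [← Nat.card_coe_set_eq]
    exact D.card_E_ne
  have hEK : D.E ≤ K := fun x hx => by
    by_cases h1 : x = 1
    · rw [h1]; exact one_mem _
    · have h2 : X = {x : G | x ∈ D.E ∧ x ≠ 1} :=
        Set.eq_of_subset_of_ncard_le (fun y hy => (hsub hy).1) (by rw [h7, ← hcard]) (Set.toFinite _)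
      exact (hsub (h2 ▸ (⟨hx, h1⟩ : x ∈ {x : G | x ∈ D.E ∧ x ≠ 1}))).2
  rw [L, Subgroup.normalClosure, closure_le]
  intro j hj
  obtain ⟨z, hz, hzj⟩ := Group.mem_conjugatesOfSet_iff.1 hj
  rw [Set.mem_singleton_iff.1 hz] at hzj
  obtain ⟨a, rfl⟩ := isConj_iff.1 hzj
  obtain ⟨d, hd, hdE⟩ := hconj _ ((CfsgLib.Signalizer.orderOf_conj a D.J).trans D.hJ)
  exact (mem_normalizer_iff.1 (hn hd) _).2 (hEK hdE)

include hns in
theorem simple_L : IsSimpleGroup D.L := by
  have : Nontrivial D.L := ⟨⟨⟨D.J, D.mem_L D.hJ⟩, 1, fun h => D.J_ne_one (congrArg Subtype.val h)⟩⟩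
  refine ⟨fun N hN => ?_⟩
  by_cases hb : N = ⊥
  · exact Or.inl hb
  refine Or.inr ?_
  have hn : D.L ≤ normalizer ((N.map D.L.subtype : Subgroup G) : Set G) := fun l hl => conj_mem_of_le (by
    rintro _ ⟨x, hx, rfl⟩
    exact ⟨⟨l, hl⟩ * x * ⟨l, hl⟩⁻¹, hN.conj_mem x hx _, rfl⟩)
  have h := D.le_of_normalised hns hn
    fun h => hb ((map_eq_bot_iff_of_injective _ (subtype_injective _)).1 h)
  refine eq_top_iff.2 fun x _ => ?_
  obtain ⟨y, hy, hyx⟩ := h x.2
  exact (Subtype.ext hyx : y = x) ▸ hy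

include hns in
theorem card_inf : Nat.card ↥(D.H ⊓ D.L) = 56 := by
  have h7 := D.seven_dvd hns
  have h8 : 8 ∣ Nat.card ↥(D.H ⊓ D.L) := D.card_E ▸ Subgroup.card_dvd_of_le (le_inf D.E_le_H D.E_le_L)
  have h168 := Subgroup.card_dvd_of_le (inf_le_left : D.H ⊓ D.L ≤ D.H)
  rw [D.card_H] at h168
  obtain ⟨k, hk⟩ := (Nat.Coprime.mul_dvd_of_dvd_of_dvd (by norm_num : Nat.Coprime 7 8) h7 h8)
  rw [hk] at h168 ⊢
  have hk3 : k ∣ 3 := (Nat.mul_dvd_mul_iff_left (by norm_num : 0 < 7 * 8)).1 h168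
  rcases (Nat.dvd_prime Nat.prime_three).1 hk3 with rfl | rfl
  · norm_num
  · exfalso
    have hle : D.H ≤ D.L := by
      have h := eq_of_le_of_card_ge (inf_le_left : D.H ⊓ D.L ≤ D.H) (by rw [D.card_H, hk])
      exact h ▸ inf_le_right
    have htop : D.L = ⊤ := eq_top_iff.2 fun a _ => by
      obtain ⟨c, hc, hca⟩ := D.exists_L_mul a
      have := mul_mem (inv_mem hc) (hle hca)
      rwa [inv_mul_cancel_left] at this
    have := D.simple_L hns
    have : IsSimpleGroup G := ((MulEquiv.subgroupCongr htop).trans Subgroup.topEquiv).symm.isSimpleGroup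
    have hnc : ¬ IsMulCommutative G := fun h => hns (Group.isSolvable_of_comm fun a b => h.is_comm.comm a b)
    have hab : IsMulCommutative (D.P : Subgroup G) := by
      rw [D.P_eq]
      exact ⟨⟨fun a b => Subtype.ext (D.E_comm a.2 b.2)⟩⟩
    have h := CfsgLib.Classical.EightAutomizer.relIndex_eq_seven hnc D.P hab
      (by rw [D.P_eq, D.card_E]) (fun a ha => D.E_sq (D.P_eq ▸ ha))
      fun t ht => CfsgLib.Burnside.isSolvable_of_card_eq (a := 3) (b := 1) Nat.prime_two Nat.prime_three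
        (by rw [D.card_cent_inv ht]; norm_num)
    have hC : centralizer (D.E : Set G) = D.E := le_antisymm
      (fun x hx => D.cent_E_le fun y hy => (mem_centralizer_iff.1 hx y hy).symm)
      fun x hx => mem_centralizer_iff.2 fun y hy => D.E_comm hy hx
    rw [D.P_eq, hC] at h
    have h2 := Subgroup.card_eq_card_quotient_mul_card_subgroup (D.E.subgroupOf D.H)
    rw [D.card_H, Nat.card_congr (subgroupOfEquivOfLe D.E_le_H).toEquiv, D.card_E,
      show Nat.card (D.H ⧸ D.E.subgroupOf D.H) = D.E.relIndex (normalizer (D.E : Set G)) from rfl, h] at h2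
    norm_num at h2

include D hns in
/-- The group is `PΓL(2, 8)`. -/
theorem iso : ∃ (F : Type) (_ : Field F) (_ : Fintype F), Fintype.card F = 8 ∧
    Nonempty (G ≃* MulAut (Matrix.ProjectiveSpecialLinearGroup (Fin 2) F)) := by
  classical
  have : Fact (Nat.Prime 2) := ⟨Nat.prime_two⟩
  let F := GaloisField 2 3
  let _ : Fintype F := Fintype.ofFinite F
  have hF : Fintype.card F = 8 := by
    rw [← Nat.card_eq_fintype_card, GaloisField.card 2 3 (by norm_num)]
    norm_num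
  refine ⟨F, inferInstance, inferInstance, hF, ?_⟩
  have hL : Nat.card D.L = 504 := by rw [D.card_L hns, D.card_inf hns]
  have := D.simple_L hns
  obtain ⟨f⟩ := Cfsg.Agent.S1011.result (G := D.L) hL hF
  let Φ : G →* MulAut (Matrix.ProjectiveSpecialLinearGroup (Fin 2) F) :=
    (MulAut.congr f).toMonoidHom.comp MulAut.conjNormal
  have hinj : Function.Injective Φ := by
    rw [injective_iff_map_eq_one]
    intro x hx
    have h1 : MulAut.conjNormal (H := D.L) x = 1 :=
      (MulAut.congr f).injective (hx.trans (map_one _).symm)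
    have hcomm : ∀ y ∈ D.L, x * y = y * x := fun y hy => by
      have := congrArg Subtype.val (DFunLike.congr_fun h1 ⟨y, hy⟩)
      exact mul_inv_eq_iff_eq_mul.1 (by simpa using this)
    have hxE : x ∈ D.E := D.cent_E_le fun y hy => hcomm y (D.E_le_L hy)
    by_contra h1
    have h2 : D.L ≤ centralizer ({x} : Set G) := fun y hy =>
      mem_centralizer_singleton_iff.2 (hcomm y hy).symm
    have h3 := Subgroup.card_dvd_of_le h2
    rw [hL, D.card_cent_inv (D.orderOf_mem_E hxE h1)] at h3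
    norm_num at h3
  have hcard : Nat.card G = Nat.card (MulAut (Matrix.ProjectiveSpecialLinearGroup (Fin 2) F)) := by
    rw [D.card_G hns, Cfsg.Agent.S0813.result (F := F) 2 3 (by norm_num) (by rw [hF]; norm_num) 2 le_rfl
      (fun _ => by norm_num), CfsgLib.Fusion.TwoTypes.PGLTwo.natCard_pgl (K := F), hF]
    norm_num
  exact ⟨MulEquiv.ofBijective Φ
    ((Nat.bijective_iff_injective_and_card Φ).2 ⟨hinj, hcard⟩)⟩

end Four

end CfsgLib.Recog.TwoTimesAlt
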