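import Cfsg.Agent.Lib.Recog.TwoTimesAlt.Setup
import Cfsg.Agent.Lib.Recog.JanType.Main
import Cfsg.Agent.Lib.Recog.JankoOneAut

/-!
Owner: helper1. The case `m = 5`: the group is `J₁`.
-/

set_option autoImplicit false
set_option maxRecDepth 100000

namespace CfsgLib.Recog.TwoTimesAlt

open Subgroup

variable {G : Type*} [Group G] [Finite G] {J : G} {T : Subgroup G}

theorem Split.five (D : Split J T) (P : Sylow 2 G) (hJP : J ∈ P) (hP : ∀ x ∈ P, x * J = J * x)
    (e : T ≃* ↥(alternatingGroup (Fin 5))) {g : G} (hg : g * J * g⁻¹ ∈ T) : Cfsg.Spor.IsoJ1 G := by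
  obtain ⟨φ, -⟩ := D.exists_equiv e
  have hWC : JanType.wc J = centralizer ({J} : Set G) := by
    refine le_antisymm (JanType.wc_le_centralizer J) fun c hc => ?_
    haveI : IsSimpleGroup ↥(alternatingGroup (Fin 5)) := alternatingGroup.isSimpleGroup (by norm_num)
    haveI : IsSimpleGroup T := e.isSimpleGroup
    haveI hn : ((JanType.wc J).subgroupOf T).Normal := ⟨fun x hx t => mem_subgroupOf.2 (by
      have h := JanType.wc_conj_mem (g := (t : G)) (mem_subgroupOf.1 hx)
      rwa [← D.comm t.2, mul_inv_cancel_right] at h)⟩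
    have hT : T ≤ JanType.wc J := by
      refine subgroupOf_eq_top.1 (hn.eq_bot_or_eq_top.resolve_left fun h => ?_)
      have h1 : (⟨g * J * g⁻¹, hg⟩ : T) ∈ (JanType.wc J).subgroupOf T :=
        mem_subgroupOf.2 (subset_closure ⟨g, rfl, (D.comm hg).symm⟩)
      rw [h, mem_bot] at h1
      have h2 := congrArg Subtype.val h1
      have h3 := D.hJ
      rw [conj_eq_one_iff.1 h2, orderOf_one] at h3
      norm_num at h3
    rcases D.cent_cases hc with h | ⟨t, ht, rfl⟩
    · exact hT h
    · exact mul_mem (JanType.mem_wc_self J) (hT ht)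
  obtain ⟨f⟩ := JanType.iso_normalClosure J D.hJ P hJP hP ((MulEquiv.subgroupCongr hWC).trans φ)
  set N := normalClosure ({J} : Set G) with hN
  have hCN : centralizer ({J} : Set G) ≤ N := by
    rw [← hWC]
    refine (closure_le _).2 fun x ⟨a, hx, _⟩ => ?_
    show x ∈ N
    rw [hx]
    exact normalClosure_normal.conj_mem J (subset_normalClosure (Set.mem_singleton J)) a
  have htop : (⊤ : Subgroup G) = N := by
    refine le_antisymm (fun a _ => ?_) le_top
    haveI : N.Normal := normalClosure_normal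
    obtain ⟨k, hk⟩ := CfsgLib.Recog.JankoOne.aut_inner ((f.symm.trans (MulAut.conjNormal a)).trans f)
    set n : N := f.symm k with hn
    have hcent : ∀ x ∈ N, (n : G)⁻¹ * a * x = x * ((n : G)⁻¹ * a) := fun x hx => by
      have h := DFunLike.congr_fun hk (f ⟨x, hx⟩)
      have h' : f n * f ⟨x, hx⟩ * (f n)⁻¹ = f (MulAut.conjNormal a ⟨x, hx⟩) := by
        rw [hn, f.apply_symm_apply]
        simpa using h
      rw [← map_inv, ← map_mul, ← map_mul] at h'
      have h'' : (n : G) * x * (n : G)⁻¹ = a * x * a⁻¹ := by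
        simpa using congrArg Subtype.val (f.injective h')
      calc (n : G)⁻¹ * a * x = (n : G)⁻¹ * (a * x * a⁻¹) * a := by group
        _ = (n : G)⁻¹ * ((n : G) * x * (n : G)⁻¹) * a := by rw [h'']
        _ = x * ((n : G)⁻¹ * a) := by group
    have hmem : (n : G)⁻¹ * a ∈ N :=
      hCN (mem_centralizer_singleton_iff.2 (hcent J (subset_normalClosure (Set.mem_singleton J))))
    have := mul_mem n.2 hmem
    rwa [mul_inv_cancel_left] at this
  exact ⟨(Subgroup.topEquiv.symm.trans (MulEquiv.subgroupCongr htop)).trans f⟩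

end CfsgLib.Recog.TwoTimesAlt
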