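import Cfsg.Agent.Lib.Recog.TwoTimesAlt.AltCommutator
import Cfsg.Agent.Lib.Transfer.ThompsonTransfer
import Cfsg.Agent.Lib.Signalizer.Involutions
import Cfsg.Prelude.Def_SporadicB
import Cfsg.Prelude.Def_TwoFusion

/-!
Owner: helper1. A `2`-central involution with centraliser `⟨J⟩ × A_m` and no normal subgroup of index two:
a conjugate of `J` lies in the alternating factor, so `m = 4` or `m = 5`.
-/

set_option autoImplicit false

namespace CfsgLib.Recog.TwoTimesAlt

open Subgroup
open scoped commutatorElement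

variable {G : Type*} [Group G]

/-- `C(J) = ⟨J⟩ × T`. -/
structure Split (J : G) (T : Subgroup G) : Prop where
  hJ : orderOf J = 2
  hd : Cfsg.IsInternalDirectProduct (zpowers J) T (centralizer ({J} : Set G))

namespace Split

variable {J : G} {T : Subgroup G} (D : Split J T)

include D

theorem sq : J * J = 1 := by rw [← pow_two, ← D.hJ, pow_orderOf_eq_one]

theorem le_cent : T ≤ centralizer ({J} : Set G) := D.hd.2.1

theorem comm {t : G} (ht : t ∈ T) : J * t = t * J := D.hd.2.2.1 J (mem_zpowers J) t ht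

theorem not_mem : J ∉ T := fun h => by
  have h1 : J ∈ zpowers J ⊓ T := ⟨mem_zpowers J, h⟩
  rw [D.hd.2.2.2.1, mem_bot] at h1
  have := D.hJ
  rw [h1, orderOf_one] at this
  norm_num at this

theorem cent_cases {c : G} (hc : c ∈ centralizer ({J} : Set G)) : c ∈ T ∨ ∃ t ∈ T, c = J * t := by
  rw [← D.hd.2.2.2.2] at hc
  have hle : zpowers J ≤ normalizer (T : Set G) := zpowers_le.2 (mem_normalizer_iff.2 fun t => by
    refine ⟨fun ht => ?_, fun ht => ?_⟩
    · rw [D.comm ht, mul_inv_cancel_right]; exact ht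
    · have e : t = J⁻¹ * (J * t * J⁻¹) * J := by group
      rw [e, mul_assoc _ _ J, ← D.comm ht, inv_mul_cancel_left]
      exact ht)
  rw [← SetLike.mem_coe, coe_mul_of_left_le_normalizer_right _ _ hle] at hc
  obtain ⟨z, ⟨k, rfl⟩, t, ht, rfl⟩ := hc
  rcases Int.even_or_odd' k with ⟨i, rfl | rfl⟩
  · left
    simpa [zpow_mul, pow_two, D.sq] using ht
  · exact Or.inr ⟨t, ht, by simp [zpow_add, zpow_mul, pow_two, D.sq]⟩

theorem commutator_le : ⁅centralizer ({J} : Set G), centralizer ({J} : Set G)⁆ ≤ T := by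
  refine Subgroup.commutator_le.2 fun a ha b hb => ?_
  have hJi : J⁻¹ = J := inv_eq_of_mul_eq_one_right D.sq
  have hab : ∀ x y : G, x ∈ T → y ∈ T → ⁅x, y⁆ ∈ T := fun x y hx hy => by
    rw [commutatorElement_def]
    exact mul_mem (mul_mem (mul_mem hx hy) (inv_mem hx)) (inv_mem hy)
  have hl : ∀ x y : G, y * J = J * y → x * J = J * x → ⁅J * x, y⁆ = ⁅x, y⁆ := fun x y hy hx => by
    have h1 : Commute J ⁅x, y⁆ := by
      have a1 : Commute J x := hx.symm
      have a2 : Commute J y := hy.symm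
      rw [commutatorElement_def]
      exact ((a1.mul_right a2).mul_right a1.inv_right).mul_right a2.inv_right
    calc ⁅J * x, y⁆ = J * ⁅x, y⁆ * (y * J⁻¹ * y⁻¹) := by rw [commutatorElement_def, commutatorElement_def]; group
      _ = ⁅x, y⁆ := by rw [hJi, hy, mul_inv_cancel_right, h1.eq, mul_assoc, D.sq, mul_one]
  have hr : ∀ x y : G, x * J = J * x → y * J = J * y → ⁅x, J * y⁆ = ⁅x, y⁆ := fun x y hx hy => by
    calc ⁅x, J * y⁆ = ⁅J * y, x⁆⁻¹ := (commutatorElement_inv _ _).symm
      _ = ⁅x, y⁆ := by rw [hl y x hx hy, commutatorElement_inv]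
  rcases D.cent_cases ha with ha' | ⟨x, hx, rfl⟩ <;> rcases D.cent_cases hb with hb' | ⟨y, hy, rfl⟩
  · exact hab a b ha' hb'
  · rw [hr a y (D.comm ha').symm (D.comm hy).symm]; exact hab a y ha' hy
  · rw [hl x b (D.comm hb').symm (D.comm hx).symm]; exact hab x b hx hb'
  · rw [hl x (J * y) (by rw [mul_assoc, ← D.comm hy]) (D.comm hx).symm, hr x y (D.comm hx).symm (D.comm hy).symm]
    exact hab x y hx hy

variable [Finite G]

/-- A conjugate of `J` lies in `T`. -/
theorem exists_conj_mem (h2 : ∀ N : Subgroup G, N.Normal → N.index ≠ 2) (P : Sylow 2 G) (hJP : J ∈ P)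
    (hP : ∀ x ∈ P, x * J = J * x) : ∃ g : G, g * J * g⁻¹ ∈ T := by
  have hQ : (T ⊓ (P : Subgroup G)).relIndex (P : Subgroup G) = 2 := by
    rw [relIndex, index_eq_two_iff]
    refine ⟨⟨J, hJP⟩, fun b => ?_⟩
    rcases D.cent_cases (mem_centralizer_singleton_iff.2 (hP b b.2)) with hb | ⟨t, ht, hbt⟩
    · refine Or.inr ⟨mem_subgroupOf.2 ⟨hb, b.2⟩, fun h => D.not_mem ?_⟩
      have := mul_mem (inv_mem hb) (mem_subgroupOf.1 h).1
      simpa using this
    · refine Or.inl ⟨mem_subgroupOf.2 ⟨?_, mul_mem b.2 hJP⟩, fun h => D.not_mem ?_⟩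
      · show (b : G) * J ∈ T
        rw [hP b b.2, hbt, ← mul_assoc, D.sq, one_mul]
        exact ht
      · have := mul_mem (Subgroup.mem_inf.1 (mem_subgroupOf.1 h)).1 (inv_mem ht)
        rwa [hbt, mul_inv_cancel_right] at this
  rcases CfsgLib.Transfer.thompson_transfer P (T ⊓ (P : Subgroup G)) hQ D.hJ with ⟨M, hM, hMi, -⟩ | ⟨g, hg⟩
  · exact absurd hMi (h2 M hM)
  · exact ⟨g, hg.1⟩

omit [Finite G] in
/-- `m` is four or five. -/
theorem degree {m : ℕ} (e : T ≃* ↥(alternatingGroup (Fin m))) {g : G} (hg : g * J * g⁻¹ ∈ T) : m = 4 ∨ m = 5 := by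
  set u : T := ⟨g * J * g⁻¹, hg⟩ with hu
  have huo : orderOf (e u) = 2 := by
    rw [MulEquiv.orderOf_eq, ← Subgroup.orderOf_coe, hu, CfsgLib.Signalizer.orderOf_conj, D.hJ]
  by_contra hne
  rcases lt_or_ge m 4 with hm | hm
  · have h1 : e u * e u = 1 ∧ e u ≠ 1 := by
      refine ⟨by rw [← pow_two, ← huo, pow_orderOf_eq_one], fun h => ?_⟩
      rw [h, orderOf_one] at huo
      omega
    revert h1
    generalize e u = x
    revert x
    interval_cases m <;> decide
  · have h6 : 6 ≤ Fintype.card (Fin m) := by rw [Fintype.card_fin]; omega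
    have h1 := mem_commutator_centralizer h6 (e u) (by rw [← pow_two, ← huo, pow_orderOf_eq_one])
    have h2 : (T.subtype.comp e.symm.toMonoidHom) (e u) ∈
        ⁅centralizer ({g * J * g⁻¹} : Set G), centralizer ({g * J * g⁻¹} : Set G)⁆ := by
      have h3 := mem_map_of_mem (T.subtype.comp e.symm.toMonoidHom) h1
      rw [map_commutator] at h3
      refine commutator_mono ?_ ?_ h3 <;>
      · rintro _ ⟨y, hy, rfl⟩
        have h4 := congrArg (T.subtype.comp e.symm.toMonoidHom) (mem_centralizer_singleton_iff.1 hy)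
        rw [map_mul, map_mul] at h4
        rw [mem_centralizer_singleton_iff]
        simpa [hu] using h4
    have h5 := mem_map_of_mem (MulAut.conj g⁻¹).toMonoidHom h2
    rw [map_commutator] at h5
    have h7 : (centralizer ({g * J * g⁻¹} : Set G)).map (MulAut.conj g⁻¹).toMonoidHom ≤
        centralizer ({J} : Set G) := by
      rintro _ ⟨y, hy, rfl⟩
      have hy : y * (g * J * g⁻¹) = g * J * g⁻¹ * y := mem_centralizer_singleton_iff.1 hy
      rw [mem_centralizer_singleton_iff]
      show g⁻¹ * y * g⁻¹⁻¹ * J = J * (g⁻¹ * y * g⁻¹⁻¹)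
      calc g⁻¹ * y * g⁻¹⁻¹ * J = g⁻¹ * (y * (g * J * g⁻¹)) * g := by group
        _ = g⁻¹ * (g * J * g⁻¹ * y) * g := by rw [hy]
        _ = _ := by group
    have h8 := D.commutator_le (commutator_mono h7 h7 h5)
    refine D.not_mem ?_
    simpa [hu, mul_assoc] using h8

omit [Finite G] in
/-- The centraliser as an abstract direct product. -/
theorem exists_equiv {A : Type*} [Group A] (e : T ≃* A) :
    ∃ φ : ↥(centralizer ({J} : Set G)) ≃* Multiplicative (ZMod 2) × A,
      ∀ t : T, φ ⟨t, D.le_cent t.2⟩ = (1, e t) := by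
  have hz : Nat.card (zpowers J) = 2 := by rw [Nat.card_zpowers, D.hJ]
  have : Fact (Nat.Prime 2) := ⟨Nat.prime_two⟩
  let f : zpowers J × T →* G :=
    MonoidHom.noncommCoprod (zpowers J).subtype T.subtype fun a b => D.hd.2.2.1 a a.2 b b.2
  have hr : f.range = centralizer ({J} : Set G) := by
    refine (MonoidHom.noncommCoprod_range (f := (zpowers J).subtype) (g := T.subtype)
      (comm := fun a b => D.hd.2.2.1 a a.2 b b.2)).trans ?_
    rw [Subgroup.range_subtype, Subgroup.range_subtype, D.hd.2.2.2.2]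
  have hi : Function.Injective f := by
    rw [injective_iff_map_eq_one]
    rintro ⟨a, b⟩ h
    have h' : (a : G) * (b : G) = 1 := h
    have ha : (a : G) ∈ zpowers J ⊓ T :=
      Subgroup.mem_inf.2 ⟨a.2, by rw [mul_eq_one_iff_eq_inv.1 h']; exact inv_mem b.2⟩
    rw [D.hd.2.2.2.1, mem_bot] at ha
    rw [ha, one_mul] at h'
    exact Prod.ext (Subtype.ext ha) (Subtype.ext h')
  let z : zpowers J ≃* Multiplicative (ZMod 2) := mulEquivOfPrimeCardEq (p := 2) hz (by simp)
  refine ⟨((MulEquiv.subgroupCongr hr).symm.trans (MonoidHom.ofInjective hi).symm).trans (z.prodCongr e),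
    fun t => ?_⟩
  have h1 : (MonoidHom.ofInjective hi).symm ((MulEquiv.subgroupCongr hr).symm ⟨t, D.le_cent t.2⟩) = (1, t) := by
    rw [MulEquiv.symm_apply_eq]
    refine Subtype.ext ?_
    show (t : G) = 1 * (t : G)
    rw [one_mul]
  rw [MulEquiv.trans_apply, MulEquiv.trans_apply, h1]
  exact Prod.ext (map_one z) rfl

end Split

end CfsgLib.Recog.TwoTimesAlt
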