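import Mathlib

/-!
Owner: helper1. In an alternating group of degree at least six every involution lies in the derived subgroup
of its centraliser.
-/

set_option autoImplicit false

namespace CfsgLib.Recog.TwoTimesAlt

open Equiv Equiv.Perm Subgroup
open scoped commutatorElement

variable {α : Type*} [Fintype α] [DecidableEq α]

omit [Fintype α] in
theorem conj_two (g : Perm α) (a b c d : α) :
    g * (swap a b * swap c d) * g⁻¹ = swap (g a) (g b) * swap (g c) (g d) := by
  rw [swap_apply_apply, swap_apply_apply]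
  group

theorem sign_two {a b c d : α} (h1 : a ≠ b) (h2 : c ≠ d) : sign (swap a b * swap c d) = 1 := by
  rw [map_mul, sign_swap h1, sign_swap h2]
  decide

/-- The even permutations commuting with `a`. -/
def evenCent (a : Perm α) : Subgroup (Perm α) := centralizer ({a} : Set (Perm α)) ⊓ alternatingGroup α

theorem mem_evenCent {a g : Perm α} (hc : g * a * g⁻¹ = a) (hs : sign g = 1) : g ∈ evenCent a :=
  ⟨mem_centralizer_singleton_iff.2 (mul_inv_eq_iff_eq_mul.1 hc), mem_alternatingGroup.2 hs⟩

theorem two_mem_evenCent {a : Perm α} {p q e f : α} (hpq : p ≠ q) (hef : e ≠ f)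
    (hc : a * (swap p q * swap e f) * a⁻¹ = swap p q * swap e f) : swap p q * swap e f ∈ evenCent a := by
  refine mem_evenCent ?_ (sign_two hpq hef)
  have h := mul_inv_eq_iff_eq_mul.1 hc
  rw [← h, mul_inv_cancel_right]

theorem exists_pair_outside (h6 : 6 ≤ Fintype.card α) {a : Perm α} (ha : a * a = 1) {p₁ q₁ p₂ q₂ : α}
    (ha1 : a p₁ = q₁) (ha2 : a p₂ = q₂) : ∃ e f : α, e ≠ f ∧ e ∉ ({p₁, q₁, p₂, q₂} : Finset α) ∧
      f ∉ ({p₁, q₁, p₂, q₂} : Finset α) ∧ swap (a e) (a f) = swap e f := by
  set s : Finset α := {p₁, q₁, p₂, q₂} with hs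
  have haa : ∀ x, a (a x) = x := fun x => by rw [← Perm.mul_apply, ha, Perm.one_apply]
  have hinv : ∀ x, x ∈ s → a x ∈ s := by
    intro x hx
    simp only [hs, Finset.mem_insert, Finset.mem_singleton] at hx ⊢
    rcases hx with rfl | rfl | rfl | rfl <;> simp [← ha1, ← ha2, haa]
  by_cases h : ∃ e, e ∉ s ∧ a e ≠ e
  · obtain ⟨e, he, hae⟩ := h
    refine ⟨e, a e, Ne.symm hae, he, fun h' => he ?_, by rw [haa, swap_comm]⟩
    simpa [haa] using hinv _ h'
  · push Not at h
    have hcard : 1 < sᶜ.card := by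
      have := Finset.card_compl s
      have : s.card ≤ 4 := by rw [hs]; exact Finset.card_le_four
      omega
    obtain ⟨e, he, f, hf, hef⟩ := Finset.one_lt_card.1 hcard
    rw [Finset.mem_compl] at he hf
    exact ⟨e, f, hef, he, hf, by rw [h e he, h f hf]⟩

theorem double_mem (h6 : 6 ≤ Fintype.card α) {a : Perm α} (ha : a * a = 1) {p₁ q₁ p₂ q₂ : α}
    (ha1 : a p₁ = q₁) (ha2 : a p₂ = q₂) (hnd : [p₁, q₁, p₂, q₂].Nodup) :
    swap p₁ q₁ * swap p₂ q₂ ∈ ⁅evenCent a, evenCent a⁆ := by
  obtain ⟨e, f, hef, he, hf, hsw⟩ := exists_pair_outside h6 ha ha1 ha2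
  have haa : ∀ x, a (a x) = x := fun x => by rw [← Perm.mul_apply, ha, Perm.one_apply]
  simp only [List.nodup_cons, List.mem_cons, List.not_mem_nil, or_false, not_or, List.nodup_nil, and_true,
    not_false_eq_true] at hnd
  obtain ⟨⟨h11, h12, h13⟩, ⟨h21, h22⟩, h3⟩ := hnd
  simp only [Finset.mem_insert, Finset.mem_singleton, not_or] at he hf
  have hx : swap p₁ q₁ * swap e f ∈ evenCent a := two_mem_evenCent h11 hef (by
    rw [conj_two, hsw, ha1, ← ha1, haa, swap_comm])
  have hy : swap p₁ p₂ * swap q₁ q₂ ∈ evenCent a := two_mem_evenCent h12 h22 (by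
    rw [conj_two, ← ha1, ← ha2, haa, haa]
    exact (disjoint_swap_swap (by simp [ha1, ha2, h22, Ne.symm h11, h21, h12, Ne.symm h13, Ne.symm h3])).commute.eq)
  have hyp : (swap p₁ p₂ * swap q₁ q₂) p₁ = p₂ := by
    rw [Perm.mul_apply, swap_apply_of_ne_of_ne h11 h13, swap_apply_left]
  have hyq : (swap p₁ p₂ * swap q₁ q₂) q₁ = q₂ := by
    rw [Perm.mul_apply, swap_apply_left, swap_apply_of_ne_of_ne (Ne.symm h13) (Ne.symm h3)]
  have hye : (swap p₁ p₂ * swap q₁ q₂) e = e := by
    rw [Perm.mul_apply, swap_apply_of_ne_of_ne he.2.1 he.2.2.2, swap_apply_of_ne_of_ne he.1 he.2.2.1]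
  have hyf : (swap p₁ p₂ * swap q₁ q₂) f = f := by
    rw [Perm.mul_apply, swap_apply_of_ne_of_ne hf.2.1 hf.2.2.2, swap_apply_of_ne_of_ne hf.1 hf.2.2.1]
  have hcomm : ⁅swap p₁ p₂ * swap q₁ q₂, swap p₁ q₁ * swap e f⁆ = swap p₁ q₁ * swap p₂ q₂ := by
    rw [commutatorElement_def, conj_two, hyp, hyq, hye, hyf, mul_inv_rev, swap_inv, swap_inv, mul_assoc,
      ← mul_assoc (swap e f), swap_mul_self, one_mul]
    exact (disjoint_swap_swap (by simp [h3, h11, Ne.symm h12, Ne.symm h13, Ne.symm h21, Ne.symm h22])).commute.eq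
  rw [← hcomm]
  exact commutator_mem_commutator hy hx

/-- An even involution is a product of commutators of even permutations commuting with it. -/
theorem mem_commutator_evenCent (h6 : 6 ≤ Fintype.card α) {a : Perm α} (ha : a * a = 1) :
    ∀ (n : ℕ) (b : Perm α), b.support.card = n → b * b = 1 → sign b = 1 → (∀ x, b x ≠ x → b x = a x) →
      b ∈ ⁅evenCent a, evenCent a⁆ := by
  intro n
  induction n using Nat.strong_induction_on with
  | _ n ih =>
    intro b hn hb hsb hab
    by_cases h1 : b = 1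
    · rw [h1]; exact one_mem _
    have hbb : ∀ x, b (b x) = x := fun x => by rw [← Perm.mul_apply, hb, Perm.one_apply]
    obtain ⟨p₁, hp₁⟩ : ∃ x, b x ≠ x := by
      by_contra h
      push Not at h
      exact h1 (Perm.ext h)
    obtain ⟨p₂, hp₂, h21, h22⟩ : ∃ x, b x ≠ x ∧ x ≠ p₁ ∧ x ≠ b p₁ := by
      by_contra h
      push Not at h
      have : b = swap p₁ (b p₁) := Perm.ext fun x => by
        by_cases hx : b x = x
        · rw [hx, swap_apply_of_ne_of_ne]
          · rintro rfl; exact hp₁ hx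
          · rintro rfl; rw [hbb] at hx; exact hp₁ hx.symm
        · by_cases hxp : x = p₁
          · rw [hxp, swap_apply_left]
          · rw [h x hx hxp, hbb, swap_apply_right]
      rw [this, sign_swap (Ne.symm hp₁)] at hsb
      exact absurd hsb (by decide)
    set D := swap p₁ (b p₁) * swap p₂ (b p₂) with hD
    have hnd : [p₁, b p₁, p₂, b p₂].Nodup := by
      have e1 : b p₁ ≠ b p₂ := fun h => h21 (b.injective h).symm
      have e2 : p₁ ≠ b p₂ := fun h => h22 (by rw [h, hbb])
      simp [Ne.symm hp₁, Ne.symm hp₂, Ne.symm h21, Ne.symm h22, e1, e2]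
    have hDmem : D ∈ ⁅evenCent a, evenCent a⁆ := double_mem h6 ha (hab _ hp₁).symm (hab _ hp₂).symm hnd
    simp only [List.nodup_cons, List.mem_cons, List.not_mem_nil, or_false, not_or, List.nodup_nil, and_true,
      not_false_eq_true] at hnd
    obtain ⟨⟨h11, h12, h13⟩, ⟨h31, h32⟩, h4⟩ := hnd
    have hDD : D * D = 1 := by
      rw [hD, (disjoint_swap_swap (by simp [h11, h4, Ne.symm h12, Ne.symm h31, Ne.symm h13, Ne.symm h32])).commute.mul_mul_mul_comm,
        swap_mul_self, swap_mul_self, one_mul]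
    have hcomm : b * D = D * b := by
      refine mul_inv_eq_iff_eq_mul.1 ?_
      rw [hD, conj_two, hbb, hbb, swap_comm (b p₁), swap_comm (b p₂)]
    have hval : ∀ x, (b * D) x ≠ x → (b * D) x = b x ∧ b x ≠ x ∧ x ≠ p₁ := by
      intro x hx
      have hfix : x ∉ ({p₁, b p₁, p₂, b p₂} : Finset α) := by
        simp only [Finset.mem_insert, Finset.mem_singleton, not_or]
        refine ⟨?_, ?_, ?_, ?_⟩ <;> rintro rfl <;> apply hx
        · rw [hD, Perm.mul_apply, Perm.mul_apply, swap_apply_of_ne_of_ne h12 h13, swap_apply_left, hbb]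
        · rw [hD, Perm.mul_apply, Perm.mul_apply, swap_apply_of_ne_of_ne h31 h32, swap_apply_right]
        · rw [hD, Perm.mul_apply, Perm.mul_apply, swap_apply_left,
            swap_apply_of_ne_of_ne (Ne.symm h13) (Ne.symm h32), hbb]
        · rw [hD, Perm.mul_apply, Perm.mul_apply, swap_apply_right,
            swap_apply_of_ne_of_ne (Ne.symm h12) (Ne.symm h31)]
      simp only [Finset.mem_insert, Finset.mem_singleton, not_or] at hfix
      have e : (b * D) x = b x := by
        rw [hD, Perm.mul_apply, Perm.mul_apply, swap_apply_of_ne_of_ne hfix.2.2.1 hfix.2.2.2,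
          swap_apply_of_ne_of_ne hfix.1 hfix.2.1]
      exact ⟨e, e ▸ hx, hfix.1⟩
    have hlt : (b * D).support.card < n := by
      rw [← hn]
      refine Finset.card_lt_card ⟨fun x hx => mem_support.2 (hval x (mem_support.1 hx)).2.1, fun h => ?_⟩
      exact (hval p₁ (mem_support.1 (h (mem_support.2 hp₁)))).2.2 rfl
    have hbD := ih _ hlt (b * D) rfl
      (by rw [mul_assoc, ← mul_assoc D, ← hcomm, mul_assoc b, hDD, mul_one, hb])
      (by rw [map_mul, hsb, one_mul, hD, sign_two h11 h4])
      (fun x hx => (hval x hx).1.trans (hab x (hval x hx).2.1))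
    have := mul_mem hbD hDmem
    rwa [mul_assoc, hDD, mul_one] at this

/-- In an alternating group of degree at least six an involution lies in the derived group of its centraliser. -/
theorem mem_commutator_centralizer (h6 : 6 ≤ Fintype.card α) (a : alternatingGroup α) (ha : a * a = 1) :
    a ∈ ⁅centralizer ({a} : Set (alternatingGroup α)), centralizer ({a} : Set (alternatingGroup α))⁆ := by
  have h : (a : Perm α) ∈ ⁅evenCent (a : Perm α), evenCent (a : Perm α)⁆ :=
    mem_commutator_evenCent h6 (congrArg Subtype.val ha) _ _ rfl (congrArg Subtype.val ha)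
      (mem_alternatingGroup.1 a.2) (fun _ _ => rfl)
  have he : (centralizer ({a} : Set (alternatingGroup α))).map (alternatingGroup α).subtype =
      evenCent (a : Perm α) := by
    ext x
    constructor
    · rintro ⟨y, hy, rfl⟩
      exact ⟨mem_centralizer_singleton_iff.2 (congrArg Subtype.val (mem_centralizer_singleton_iff.1 hy)), y.2⟩
    · rintro ⟨hx, hx2⟩
      exact ⟨⟨x, hx2⟩, mem_centralizer_singleton_iff.2 (Subtype.ext (mem_centralizer_singleton_iff.1 hx)), rfl⟩
  rw [← he, ← map_commutator] at h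
  obtain ⟨y, hy, hya⟩ := h
  have : y = a := Subtype.ext hya
  rw [this] at hy
  exact hy

end CfsgLib.Recog.TwoTimesAlt
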