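import Cfsg.Agent.Lib.Recog.TwoTimesAlt.FourLocal
import Cfsg.Agent.Lib.TwoGroups.StrongEmbedding

/-!
Owner: helper1. Centraliser `Z₂ × A₄`: an element of order seven fixes two cosets of the strongly embedded
subgroup, so its index is nine.
-/

set_option autoImplicit false

namespace CfsgLib.Recog.TwoTimesAlt

open Subgroup
open CfsgLib.Recog.JanType (conj_mem_of_le)

/-- Two subgroups of prime order `7` inside a group of order at most `21` are equal. -/
theorem seven_unique {G : Type*} [Group G] [Finite G] {D P Q : Subgroup G} (hD : Nat.card D ≤ 21)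
    (hP : Nat.card P = 7) (hQ : Nat.card Q = 7) (hPD : P ≤ D) (hQD : Q ≤ D) : P = Q := by
  by_contra hne
  have hbot : P ⊓ Q = ⊥ := by
    rcases (Nat.dvd_prime (by norm_num : Nat.Prime 7)).1 (hP ▸ Subgroup.card_dvd_of_le (inf_le_left : P ⊓ Q ≤ P))
      with h | h
    · exact Subgroup.card_eq_one.1 h
    · exfalso
      exact hne ((eq_of_le_of_card_ge inf_le_left (by omega)).symm.trans
        (eq_of_le_of_card_ge (inf_le_right : P ⊓ Q ≤ Q) (by omega)))
  let f : P × Q → D := fun x => ⟨(x.1 : G) * x.2, mul_mem (hPD x.1.2) (hQD x.2.2)⟩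
  have hf : Function.Injective f := by
    rintro ⟨a, b⟩ ⟨c, d⟩ h
    have h' : (a : G) * b = c * d := congrArg Subtype.val h
    have h1 : (c : G)⁻¹ * a = d * (b : G)⁻¹ := by
      rw [eq_mul_inv_iff_mul_eq, mul_assoc, h', inv_mul_cancel_left]
    have h2 : (c : G)⁻¹ * a ∈ P ⊓ Q :=
      Subgroup.mem_inf.2 ⟨mul_mem (inv_mem c.2) a.2, h1 ▸ mul_mem d.2 (inv_mem b.2)⟩
    rw [hbot, mem_bot] at h2
    have hac : (c : G) = a := inv_mul_eq_one.1 h2
    rw [hac] at h'
    exact Prod.ext (Subtype.ext hac.symm) (Subtype.ext (mul_left_cancel h'))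
  have := Nat.card_le_card_of_injective f hf
  rw [Nat.card_prod, hP, hQ] at this
  omega

/-- An involution normalising a group of order seven inverts or centralises it. -/
theorem inverts_or_centralises {G : Type*} [Group G] {a p : G} (ha : a * a = 1) (hp : orderOf p = 7)
    (hn : a * p * a⁻¹ ∈ zpowers p) : a * p * a⁻¹ = p ∨ a * p * a⁻¹ = p⁻¹ := by
  obtain ⟨k, hk⟩ := mem_zpowers_iff.1 hn
  have h1 : p ^ (k * k) = p := by
    rw [zpow_mul, hk, conj_zpow, hk]
    calc a * (a * p * a⁻¹) * a⁻¹ = a * a * p * (a * a)⁻¹ := by group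
      _ = p := by rw [ha]; group
  rw [← hk]
  have h2 : ((k * k : ℤ) : ZMod 7) = 1 := by
    have h3 : (7 : ℤ) ∣ k * k - 1 := by
      rw [show (7 : ℤ) = ((orderOf p : ℕ) : ℤ) by rw [hp]; rfl, orderOf_dvd_iff_zpow_eq_one, zpow_sub, h1, zpow_one,
        mul_inv_cancel]
    have h4 := (ZMod.intCast_zmod_eq_zero_iff_dvd _ 7).2 h3
    rw [Int.cast_sub, Int.cast_one, sub_eq_zero] at h4
    exact h4
  rw [Int.cast_mul] at h2
  have h5 : (k : ZMod 7) = 1 ∨ (k : ZMod 7) = -1 := by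
    revert h2
    generalize (k : ZMod 7) = z
    revert z
    decide
  have hz : ∀ i : ℤ, (k : ZMod 7) = (i : ZMod 7) → p ^ k = p ^ i := fun i hi => by
    rw [zpow_eq_zpow_iff_modEq, hp]
    exact (ZMod.intCast_eq_intCast_iff _ _ 7).1 hi
  rcases h5 with h | h
  · exact Or.inl ((hz 1 (by rw [h]; simp)).trans (zpow_one p))
  · exact Or.inr ((hz (-1) (by rw [h]; simp)).trans (zpow_neg_one p))

namespace Four

variable {G : Type*} [Group G] [Finite G] (D : Four G)

/-- The base point. -/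
def pt : G ⧸ D.H := ((1 : G) : G ⧸ D.H)

/-- The stabiliser of a point in `H`. -/
def stab (z : G ⧸ D.H) : Subgroup G := D.H ⊓ MulAction.stabilizer G z

omit [Finite G] in
theorem smul_pt {a : G} : a • D.pt = D.pt ↔ a ∈ D.H := by
  rw [pt, CfsgLib.TwoGroups.SE.smul_mk_eq_iff]
  simp

omit [Finite G] in
theorem mem_stab {a : G} {z : G ⧸ D.H} : a ∈ D.stab z ↔ a • D.pt = D.pt ∧ a • z = z := by
  rw [stab, Subgroup.mem_inf, MulAction.mem_stabilizer_iff, D.smul_pt]

theorem card_inv_H : Nat.card {t : G // orderOf t = 2 ∧ t ∈ D.H} = 7 := by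
  rw [← D.card_E_ne]
  refine Nat.card_congr (Equiv.subtypeEquivRight fun x => ⟨fun h => ⟨D.inv_mem_H h.2 h.1, fun h1 => ?_⟩,
    fun h => ⟨D.orderOf_mem_E h.1 h.2, D.E_le_H h.1⟩⟩)
  have h2 := h.1
  rw [h1, orderOf_one] at h2
  norm_num at h2

variable (hns : ¬ Group.IsSolvable G)

include hns in
theorem stab_bound {z : G ⧸ D.H} (hz : z ≠ D.pt) : 7 ∣ Nat.card (D.stab z) ∧ Nat.card (D.stab z) ≤ 21 := by
  have hSE := D.stronglyEmbedded hns
  constructor
  · have hX : ∀ x, x ∈ {x : G | x ∈ D.E ∧ x ≠ 1} ↔ ∃ y ∈ D.stab z, y * D.J * y⁻¹ = x := by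
      intro x
      refine ⟨fun h => ?_, ?_⟩
      · obtain ⟨d, hd1, hd2, hd⟩ := CfsgLib.TwoGroups.SE.exists_conj_fixing hSE (Ne.symm hz) D.hJ
          (D.smul_pt.2 (D.E_le_H D.J_mem_E)) (D.orderOf_mem_E h.1 h.2) (D.smul_pt.2 (D.E_le_H h.1))
        exact ⟨d, D.mem_stab.2 ⟨hd1, hd2⟩, hd⟩
      · rintro ⟨y, hy, rfl⟩
        exact ⟨(mem_normalizer_iff.1 (D.smul_pt.1 (D.mem_stab.1 hy).1) D.J).1 D.J_mem_E,
          fun h => D.J_ne_one (conj_eq_one_iff.1 h)⟩
    rw [card_orbit (D.stab z) D.J _ hX, show Nat.card ↥{x : G | x ∈ D.E ∧ x ≠ 1} = 7 from D.card_E_ne]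
    exact dvd_mul_right _ _
  · have hdvd : Nat.card (D.stab z) ∣ 8 * 21 := by
      have h := Subgroup.card_dvd_of_le (show D.stab z ≤ D.H from inf_le_left)
      rwa [D.card_H] at h
    have hodd : Odd (Nat.card (D.stab z)) := by
      rw [← Nat.not_even_iff_odd, even_iff_two_dvd]
      intro h2
      have : Fact (Nat.Prime 2) := ⟨Nat.prime_two⟩
      obtain ⟨a, ha⟩ := exists_prime_orderOf_dvd_card' 2 h2
      rw [← Subgroup.orderOf_coe] at ha
      exact hz (CfsgLib.TwoGroups.SE.fixed_unique hSE ha (D.mem_stab.1 a.2).1 (D.mem_stab.1 a.2).2).symm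
    exact Nat.le_of_dvd (by norm_num)
      (((Nat.coprime_two_right.2 hodd).pow_right 3).dvd_of_dvd_mul_left (by simpa using hdvd))

include hns in
theorem exists_seven {z : G ⧸ D.H} (hz : z ≠ D.pt) : ∃ P : Subgroup G, Nat.card P = 7 ∧ P ≤ D.stab z := by
  have : Fact (Nat.Prime 7) := ⟨by norm_num⟩
  obtain ⟨a, ha⟩ := exists_prime_orderOf_dvd_card' 7 (D.stab_bound hns hz).1
  exact ⟨zpowers (a : G), by rw [Nat.card_zpowers, Subgroup.orderOf_coe, ha], zpowers_le.2 a.2⟩

include D in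
/-- An element of order seven commutes with no involution. -/
theorem not_commute {p t : G} (hp : orderOf p = 7) (ht : orderOf t = 2) (hc : p * t = t * p) : False := by
  have h := Subgroup.orderOf_dvd_natCard _ (mem_centralizer_singleton_iff.2 hc)
  rw [hp, D.card_cent_inv ht] at h
  norm_num at h

/-- The Sylow `7`-subgroups of `H` number eight. -/
theorem card_sylow_seven : Nat.card (Sylow 7 D.H) = 8 := by
  have : Fact (Nat.Prime 7) := ⟨by norm_num⟩
  obtain ⟨Q⟩ := (inferInstance : Nonempty (Sylow 7 D.H))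
  have hQc : Nat.card (Q : Subgroup D.H) = 7 := by
    rw [Sylow.card_eq_multiplicity, D.card_H, show (168 : ℕ) = 7 ^ 1 * 24 from rfl,
      Nat.factorization_mul_apply_of_coprime (by norm_num), Nat.Prime.factorization_pow (by norm_num),
      Nat.factorization_eq_zero_of_not_dvd (by norm_num : ¬ 7 ∣ 24)]
    simp
  have hdvd : Nat.card (Sylow 7 D.H) ∣ 24 := by
    have h1 := Q.card_dvd_index
    have h2 := (Q : Subgroup D.H).index_mul_card
    rw [hQc, D.card_H] at h2
    rwa [show (Q : Subgroup D.H).index = 24 by omega] at h1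
  have hmod : Nat.card (Sylow 7 D.H) % 7 = 1 := card_sylow_modEq_one 7 D.H
  have hle := Nat.le_of_dvd (by norm_num) hdvd
  have hne : Nat.card (Sylow 7 D.H) ≠ 1 := by
    intro h1
    have hsub : Subsingleton (Sylow 7 D.H) := (Nat.card_eq_one_iff_unique.1 h1).1
    obtain ⟨p, hp⟩ := exists_prime_orderOf_dvd_card' (G := (Q : Subgroup D.H)) 7 (by rw [hQc])
    have hpn : ∀ h : D.H, h * (p : D.H) * h⁻¹ ∈ (Q : Subgroup D.H) := fun h => by
      have h3 : ((h • Q : Sylow 7 D.H) : Subgroup D.H) = Q := by rw [Subsingleton.elim (h • Q) Q]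
      have h4 : h * (p : D.H) * h⁻¹ ∈ ((h • Q : Sylow 7 D.H) : Subgroup D.H) := by
        rw [Sylow.coe_subgroup_smul, Subgroup.mem_pointwise_smul_iff_inv_smul_mem]
        simp [MulAut.smul_def, MulAut.conj_inv_apply, mul_assoc]
      rwa [h3] at h4
    set j : D.H := ⟨D.J, D.E_le_H D.J_mem_E⟩ with hj
    set c : D.H := j * (p : D.H) * j⁻¹ * (p : D.H)⁻¹ with hc
    have hcQ : c ∈ (Q : Subgroup D.H) := mul_mem (hpn j) (inv_mem p.2)
    have hcE : (c : G) ∈ D.E := by
      have h4 := (mem_normalizer_iff.1 (inv_mem (inv_mem (p : D.H).2) : ((p : D.H) : G)⁻¹⁻¹ ∈ D.H) D.J⁻¹).1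
        (inv_mem D.J_mem_E)
      have h5 := mul_mem D.J_mem_E h4
      convert h5 using 1
      simp [hc, hj, mul_assoc]
    have hc1 : c = 1 := by
      refine orderOf_eq_one_iff.1 (Nat.eq_one_of_dvd_coprimes (by norm_num : Nat.Coprime 8 7) ?_ ?_)
      · rw [← Subgroup.orderOf_coe, ← D.card_E]
        exact Subgroup.orderOf_dvd_natCard _ hcE
      · rw [← hQc]
        exact Subgroup.orderOf_dvd_natCard _ hcQ
    refine D.not_commute (p := ((p : D.H) : G)) (t := D.J) (by rw [Subgroup.orderOf_coe, Subgroup.orderOf_coe, hp]) D.hJ ?_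
    have h6 : ((c : D.H) : G) = 1 := by rw [hc1]; rfl
    simp [hc, hj] at h6
    exact (mul_inv_eq_iff_eq_mul.1 (mul_inv_eq_one.1 h6)).symm
  interval_cases h : Nat.card (Sylow 7 D.H) <;> omega

omit [Finite G] in
theorem card_map_sylow (Q : Sylow 7 D.H) :
    Nat.card ((Q : Subgroup D.H).map D.H.subtype) = Nat.card (Q : Subgroup D.H) :=
  card_map_of_injective (K := (Q : Subgroup D.H)) (subtype_injective D.H)

theorem sylow_seven_card (Q : Sylow 7 D.H) : Nat.card ((Q : Subgroup D.H).map D.H.subtype) = 7 := by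
  have : Fact (Nat.Prime 7) := ⟨by norm_num⟩
  rw [D.card_map_sylow, Sylow.card_eq_multiplicity, D.card_H, show (168 : ℕ) = 7 ^ 1 * 24 from rfl,
    Nat.factorization_mul_apply_of_coprime (by norm_num), Nat.Prime.factorization_pow (by norm_num),
    Nat.factorization_eq_zero_of_not_dvd (by norm_num : ¬ 7 ∣ 24)]
  simp

omit [Finite G] in
theorem exists_sylow_eq {P : Subgroup G} (hP : Nat.card P = 7) (hPH : P ≤ D.H) [Finite G] :
    ∃ Q : Sylow 7 D.H, (Q : Subgroup D.H).map D.H.subtype = P := by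
  have : Fact (Nat.Prime 7) := ⟨by norm_num⟩
  obtain ⟨Q, hQ⟩ := ((IsPGroup.of_card (n := 1) (by rw [hP, pow_one]) : IsPGroup 7 P).of_equiv
    (subgroupOfEquivOfLe hPH).symm).exists_le_sylow
  refine ⟨Q, (eq_of_le_of_card_ge (fun x hx => mem_map.2 ⟨⟨x, hPH hx⟩, hQ (mem_subgroupOf.2 hx), rfl⟩) ?_).symm⟩
  rw [D.sylow_seven_card Q, hP]

/-- The points other than the base point fixed by `P`. -/
def fixed (P : Subgroup G) : Set (G ⧸ D.H) := {z | z ≠ D.pt ∧ ∀ p ∈ P, p • z = z}

omit [Finite G] in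
theorem le_stab {P : Subgroup G} (hPH : P ≤ D.H) {z : G ⧸ D.H} (hz : ∀ p ∈ P, p • z = z) : P ≤ D.stab z :=
  fun p hp => D.mem_stab.2 ⟨D.smul_pt.2 (hPH hp), hz p hp⟩

theorem conj_seven {P P' : Subgroup G} (hP : Nat.card P = 7) (hPH : P ≤ D.H) (hP' : Nat.card P' = 7)
    (hPH' : P' ≤ D.H) : ∃ h ∈ D.H, ∀ x, x ∈ P' ↔ h⁻¹ * x * h ∈ P := by
  have : Fact (Nat.Prime 7) := ⟨by norm_num⟩
  obtain ⟨Q, rfl⟩ := D.exists_sylow_eq hP hPH
  obtain ⟨Q', rfl⟩ := D.exists_sylow_eq hP' hPH'
  obtain ⟨h, rfl⟩ := MulAction.exists_smul_eq D.H Q Q'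
  refine ⟨h, h.2, fun x => ?_⟩
  constructor
  · rintro ⟨y, hy, rfl⟩
    rw [SetLike.mem_coe, Sylow.coe_subgroup_smul, Subgroup.mem_pointwise_smul_iff_inv_smul_mem] at hy
    exact ⟨_, hy, by simp [MulAut.smul_def, MulAut.conj_inv_apply]⟩
  · rintro ⟨y, hy, he⟩
    refine ⟨h * y * h⁻¹, ?_, ?_⟩
    · rw [SetLike.mem_coe, Sylow.coe_subgroup_smul, Subgroup.mem_pointwise_smul_iff_inv_smul_mem]
      have e : (MulAut.conj h)⁻¹ • (h * y * h⁻¹) = y := by
        simp [MulAut.smul_def, mul_assoc]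
      rw [e]
      exact hy
    · have he' : (y : G) = (h : G)⁻¹ * x * h := he
      simp [he', mul_assoc]

theorem card_normalizer_H {P : Subgroup G} (hP : Nat.card P = 7) (hPH : P ≤ D.H) :
    Nat.card ↥(normalizer (P : Set G) ⊓ D.H) = 21 := by
  have : Fact (Nat.Prime 7) := ⟨by norm_num⟩
  obtain ⟨Q, hQ⟩ := D.exists_sylow_eq hP hPH
  have he : (normalizer ((Q : Subgroup D.H) : Set D.H)).map D.H.subtype = normalizer (P : Set G) ⊓ D.H := by
    ext x
    constructor
    · rintro ⟨y, hy, rfl⟩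
      refine Subgroup.mem_inf.2 ⟨conj_mem_of_le ?_, y.2⟩
      rw [← hQ]
      rintro _ ⟨w, hw, rfl⟩
      exact ⟨y * w * y⁻¹, (mem_normalizer_iff.1 hy w).1 hw, rfl⟩
    · intro hx
      obtain ⟨h1, h2⟩ := Subgroup.mem_inf.1 hx
      refine ⟨⟨x, h2⟩, conj_mem_of_le fun w hw => ?_, rfl⟩
      have h3 := (mem_normalizer_iff.1 h1 (w : G)).1 (hQ ▸ mem_map_of_mem _ hw)
      rw [← hQ] at h3
      obtain ⟨v, hv, hvw⟩ := h3
      rwa [show (⟨x, h2⟩ * w * ⟨x, h2⟩⁻¹ : D.H) = v from Subtype.ext hvw.symm]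
  rw [← he, card_map_of_injective (K := normalizer ((Q : Subgroup D.H) : Set D.H)) (subtype_injective D.H)]
  have h := (normalizer ((Q : Subgroup D.H) : Set D.H)).index_mul_card
  rw [← show Nat.card (Sylow 7 D.H) = (normalizer ((Q : Subgroup D.H) : Set D.H)).index from Q.card_eq_index_normalizer,
    D.card_sylow_seven, D.card_H] at h
  omega

include D in
theorem not_four_dvd {P : Subgroup G} (hP : Nat.card P = 7) : ¬ 4 ∣ Nat.card ↥(normalizer (P : Set G)) := by
  intro h4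
  have : Fact (Nat.Prime 2) := ⟨Nat.prime_two⟩
  have : Fact (Nat.Prime 7) := ⟨by norm_num⟩
  obtain ⟨p, hp⟩ := exists_prime_orderOf_dvd_card' (G := P) 7 (by rw [hP])
  rw [← Subgroup.orderOf_coe] at hp
  have hz : zpowers (p : G) = P :=
    eq_of_le_of_card_ge (zpowers_le.2 p.2) (by rw [Nat.card_zpowers, hp, hP])
  obtain ⟨Q, hQ⟩ := Sylow.exists_subgroup_card_pow_prime 2 (G := ↥(normalizer (P : Set G))) (n := 2) h4
  have hA : IsPGroup 2 (Q.map (normalizer (P : Set G)).subtype) := IsPGroup.of_card (n := 2) (by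
    rw [card_map_of_injective (K := Q) (subtype_injective _), hQ])
  obtain ⟨c, -, hc⟩ := CfsgLib.Recog.JanType.exists_conj_into (Y := ⊤) D.P hA le_top le_top
  rw [D.P_eq] at hc
  have hinv : ∀ y : Q, y ≠ 1 → orderOf (((y : ↥(normalizer (P : Set G))) : G)) = 2 ∧
      ((y : ↥(normalizer (P : Set G))) : G) * p * ((y : ↥(normalizer (P : Set G))) : G)⁻¹ = (p : G)⁻¹ := by
    intro y hy
    set a : G := ((y : ↥(normalizer (P : Set G))) : G) with ha
    have hmem := hc a (mem_map_of_mem _ y.2)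
    have hsq : a * a = 1 := by
      have h := D.E_sq hmem
      calc a * a = c⁻¹ * (c * a * c⁻¹ * (c * a * c⁻¹)) * c := by group
        _ = 1 := by rw [h]; group
    have ha2 : orderOf a = 2 := orderOf_eq_prime (by rw [pow_two]; exact hsq)
      fun h => hy (Subtype.ext (Subtype.ext h))
    refine ⟨ha2, (inverts_or_centralises hsq hp ?_).resolve_left fun h =>
      D.not_commute hp ha2 (mul_inv_eq_iff_eq_mul.1 h).symm⟩
    rw [hz]
    exact (mem_normalizer_iff.1 (y : ↥(normalizer (P : Set G))).2 (p : G)).1 p.2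
  have : Finite Q := inferInstance
  obtain ⟨x, hx⟩ : ∃ x : Q, x ≠ 1 := by
    have : Nontrivial Q := Finite.one_lt_card_iff_nontrivial.1 (by rw [hQ]; norm_num)
    exact exists_ne 1
  obtain ⟨y, hy⟩ : ∃ y : Q, y ≠ 1 ∧ y ≠ x := by
    by_contra hno
    push Not at hno
    have : Nat.card Q ≤ Nat.card Bool := Nat.card_le_card_of_surjective
      (fun b : Bool => if b then x else 1) fun y => by
        by_cases h : y = 1
        · exact ⟨false, by simp [h]⟩
        · exact ⟨true, by simp [hno y h]⟩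
    rw [hQ, Nat.card_eq_fintype_card, Fintype.card_bool] at this
    norm_num at this
  obtain ⟨hxo, hxp⟩ := hinv x hx
  obtain ⟨hyo, hyp⟩ := hinv y hy.1
  have hxy : x * y ≠ 1 := fun h => hy.2 (by
    have hxx : x * x = 1 := Subtype.ext (Subtype.ext (by
      show _ * _ = (1 : G)
      rw [← pow_two, ← hxo, pow_orderOf_eq_one]))
    exact mul_left_cancel (h.trans hxx.symm))
  obtain ⟨-, hxyp⟩ := hinv (x * y) hxy
  simp only [Subgroup.coe_mul] at hxyp
  set a : G := ((x : ↥(normalizer (P : Set G))) : G)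
  set b : G := ((y : ↥(normalizer (P : Set G))) : G)
  have h1 : a * b * p * (a * b)⁻¹ = (p : G) := by
    calc a * b * p * (a * b)⁻¹ = a * (b * p * b⁻¹) * a⁻¹ := by group
      _ = (a * p * a⁻¹)⁻¹ := by rw [hyp]; group
      _ = p := by rw [hxp, inv_inv]
  rw [h1] at hxyp
  have h2 : (p : G) ^ 2 = 1 := by rw [pow_two]; nth_rewrite 2 [hxyp]; rw [mul_inv_cancel]
  have h3 := orderOf_dvd_of_pow_eq_one h2
  rw [hp] at h3
  norm_num at h3

include D in
theorem conj_inv_normalizer {P : Subgroup G} (hP : Nat.card P = 7) {s t : G}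
    (hs : s ∈ normalizer (P : Set G)) (hs2 : orderOf s = 2) (ht : t ∈ normalizer (P : Set G))
    (ht2 : orderOf t = 2) : ∃ n ∈ normalizer (P : Set G), n * s * n⁻¹ = t := by
  have : Fact (Nat.Prime 2) := ⟨Nat.prime_two⟩
  set N := normalizer (P : Set G) with hN
  have hfac : (Nat.card N).factorization 2 = 1 := by
    have hpos : Nat.card N ≠ 0 := Nat.card_pos.ne'
    refine le_antisymm (Nat.le_of_lt_succ ?_) ?_
    · by_contra h
      exact D.not_four_dvd hP ((Nat.prime_two.pow_dvd_iff_le_factorization hpos).2 (not_lt.1 h))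
    · refine (Nat.prime_two.dvd_iff_one_le_factorization hpos).1 ?_
      rw [← hs2]
      exact Subgroup.orderOf_dvd_natCard _ hs
  set S1 : Sylow 2 N := Sylow.ofCard (zpowers (⟨s, hs⟩ : N))
    (by rw [Nat.card_zpowers, ← Subgroup.orderOf_coe, hs2, hfac, pow_one]) with hS1
  set S2 : Sylow 2 N := Sylow.ofCard (zpowers (⟨t, ht⟩ : N))
    (by rw [Nat.card_zpowers, ← Subgroup.orderOf_coe, ht2, hfac, pow_one]) with hS2
  obtain ⟨n, hn⟩ := MulAction.exists_smul_eq N S1 S2
  refine ⟨n, n.2, ?_⟩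
  have h1 : n * ⟨s, hs⟩ * n⁻¹ ∈ zpowers (⟨t, ht⟩ : N) := by
    have h2 : n * ⟨s, hs⟩ * n⁻¹ ∈ ((n • S1 : Sylow 2 N) : Subgroup N) := by
      rw [Sylow.coe_subgroup_smul, Subgroup.mem_pointwise_smul_iff_inv_smul_mem, hS1, Sylow.coe_ofCard]
      simp [MulAut.smul_def, MulAut.conj_inv_apply, mul_assoc]
    rw [hn] at h2
    exact h2
  obtain ⟨k, hk⟩ := mem_zpowers_iff.1 h1
  have ht1 : t * t = 1 := by rw [← pow_two, ← ht2, pow_orderOf_eq_one]
  have hkG : t ^ k = (n : G) * s * (n : G)⁻¹ := by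
    have := congrArg Subtype.val hk
    simpa using this
  rcases Int.even_or_odd' k with ⟨i, rfl | rfl⟩
  · exfalso
    rw [zpow_mul, zpow_ofNat, pow_two, ht1, one_zpow] at hkG
    rw [conj_eq_one_iff.1 hkG.symm, orderOf_one] at hs2
    norm_num at hs2
  · rw [zpow_add, zpow_mul, zpow_ofNat, pow_two, ht1, one_zpow, one_mul, zpow_one] at hkG
    exact hkG.symm

include hns in
/-- An element of order seven of `H` fixes one point besides the base point. -/
theorem card_fixed {P : Subgroup G} (hP : Nat.card P = 7) (hPH : P ≤ D.H) : Nat.card ↥(D.fixed P) = 1 := by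
  classical
  have hSE := D.stronglyEmbedded hns
  set N := normalizer (P : Set G) with hN
  set f := Nat.card ↥(D.fixed P) with hf
  -- fixed points are the orbit of `N`
  have hN1 : Nat.card N = (f + 1) * 21 := by
    set C : Subgroup N := D.H.subgroupOf N with hC
    have hfix : ∀ n : N, ∀ p ∈ P, p • ((n : G) • D.pt) = (n : G) • D.pt := by
      intro n p hp
      have h1 : (n : G)⁻¹ * p * n ∈ P := by
        have := (mem_normalizer_iff.1 (inv_mem n.2) p).1 hp
        simpa using this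
      rw [← mul_smul, show p * (n : G) = (n : G) * ((n : G)⁻¹ * p * n) by group, mul_smul,
        D.smul_pt.2 (hPH h1)]
    let Φ : N ⧸ C → {z : G ⧸ D.H // ∀ p ∈ P, p • z = z} := fun q =>
      Quotient.liftOn' q (fun n => ⟨(n : G) • D.pt, hfix n⟩) fun a b hab => Subtype.ext (by
        show (a : G) • D.pt = (b : G) • D.pt
        have h1 : ((a⁻¹ * b : N) : G) ∈ D.H := mem_subgroupOf.1 (QuotientGroup.leftRel_apply.1 hab)
        calc (a : G) • D.pt = (a : G) • (((a⁻¹ * b : N) : G) • D.pt) := by rw [D.smul_pt.2 h1]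
          _ = (b : G) • D.pt := by rw [← mul_smul, Subgroup.coe_mul, Subgroup.coe_inv, mul_inv_cancel_left])
    have hΦ : Function.Bijective Φ := by
      refine ⟨fun p q => ?_, fun ⟨z, hz⟩ => ?_⟩
      · induction p using QuotientGroup.induction_on with
        | _ a =>
          induction q using QuotientGroup.induction_on with
          | _ b =>
            intro h
            have h' : (a : G) • D.pt = (b : G) • D.pt := congrArg Subtype.val h
            refine QuotientGroup.eq.2 (mem_subgroupOf.2 (D.smul_pt.1 ?_))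
            rw [Subgroup.coe_mul, Subgroup.coe_inv, mul_smul, ← h', inv_smul_smul]
      · obtain ⟨g, rfl⟩ := QuotientGroup.mk_surjective z
        have hsub : P.map (MulAut.conj g⁻¹).toMonoidHom ≤ D.H := by
          rintro _ ⟨p, hp, rfl⟩
          simpa using (CfsgLib.TwoGroups.SE.smul_mk_eq_iff p g).1 (hz p hp)
        have hcard : Nat.card (P.map (MulAut.conj g⁻¹).toMonoidHom) = 7 :=
          (card_map_of_injective (K := P) (f := (MulAut.conj g⁻¹).toMonoidHom) (MulAut.conj g⁻¹).injective).trans hP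
        obtain ⟨h, hh, hiff⟩ := D.conj_seven hP hPH hcard hsub
        have hn : g * h ∈ N := by
          refine inv_inv (g * h) ▸ inv_mem (conj_mem_of_le fun x hx => ?_)
          have h3 := (hiff (g⁻¹ * x * g)).1 ⟨x, hx, by simp⟩
          convert h3 using 1
          group
        refine ⟨((⟨g * h, hn⟩ : N) : N ⧸ C), Subtype.ext ?_⟩
        show (g * h) • D.pt = (g : G ⧸ D.H)
        rw [mul_smul, D.smul_pt.2 hh, pt, MulAction.Quotient.smul_mk, smul_eq_mul, mul_one]
    have hcard : Nat.card {z : G ⧸ D.H // ∀ p ∈ P, p • z = z} = f + 1 := by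
      have h0 : {z : G ⧸ D.H | ∀ p ∈ P, p • z = z} = insert D.pt (D.fixed P) := by
        ext z
        simp only [Set.mem_setOf_eq, Set.mem_insert_iff, fixed]
        refine ⟨fun h => (em (z = D.pt)).imp_right fun hne => ⟨hne, h⟩, ?_⟩
        rintro (rfl | h)
        · exact fun p hp => D.smul_pt.2 (hPH hp)
        · exact h.2
      show Nat.card ↥{z : G ⧸ D.H | ∀ p ∈ P, p • z = z} = f + 1
      rw [h0, Nat.card_coe_set_eq, Set.ncard_insert_of_notMem (fun h => h.1 rfl), hf, Nat.card_coe_set_eq]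
    rw [Subgroup.card_eq_card_quotient_mul_card_subgroup C, Nat.card_eq_of_bijective Φ hΦ, hcard, hC,
      ← card_map_of_injective (K := D.H.subgroupOf N) (subtype_injective N), Subgroup.subgroupOf_map_subtype,
      inf_comm, D.card_normalizer_H hP hPH]
  -- some other point is fixed
  have hf1 : 1 ≤ f := by
    obtain ⟨x, hx⟩ : ∃ x : G, x ∉ D.H := by
      by_contra h
      push Not at h
      exact D.H_ne_top hns (eq_top_iff.2 fun g _ => h g)
    have hxne : (x : G ⧸ D.H) ≠ D.pt := fun h => hx (by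
      have := QuotientGroup.eq.1 h.symm
      simpa using this)
    obtain ⟨P0, hP0, hle⟩ := D.exists_seven hns hxne
    obtain ⟨h, hh, hiff⟩ := D.conj_seven hP0 (hle.trans inf_le_left) hP hPH
    have hmem : h • (x : G ⧸ D.H) ∈ D.fixed P := by
      refine ⟨fun e => hxne ?_, fun p hp => ?_⟩
      · calc (x : G ⧸ D.H) = h⁻¹ • (h • (x : G ⧸ D.H)) := (inv_smul_smul _ _).symm
          _ = D.pt := by rw [e, D.smul_pt.2 (inv_mem hh)]
      · calc p • (h • (x : G ⧸ D.H)) = h • ((h⁻¹ * p * h) • (x : G ⧸ D.H)) := by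
              rw [← mul_smul, ← mul_smul]; congr 1; group
          _ = h • (x : G ⧸ D.H) := by rw [(D.mem_stab.1 (hle ((hiff p).1 hp))).2]
    have : Nonempty ↥(D.fixed P) := ⟨⟨_, hmem⟩⟩
    exact Nat.card_pos
  -- involutions of `N`
  let I := {t : G // orderOf t = 2 ∧ t ∈ N}
  have hsw : ∀ t : G, orderOf t = 2 → t • D.pt ∈ D.fixed P → t ∈ N := by
    intro t ht hfx
    have htt : t * t = 1 := by rw [← pow_two, ← ht, pow_orderOf_eq_one]
    have hti : t⁻¹ = t := inv_eq_of_mul_eq_one_right htt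
    refine conj_mem_of_le fun p hp => ?_
    set z := t • D.pt with hz
    have htz : t • z = D.pt := by rw [hz, ← mul_smul, htt, one_smul]
    have hconj : P.map (MulAut.conj t).toMonoidHom ≤ D.stab z := by
      rintro _ ⟨q, hq, rfl⟩
      rw [D.mem_stab]
      show (t * q * t⁻¹) • D.pt = D.pt ∧ (t * q * t⁻¹) • z = z
      rw [hti, mul_smul, mul_smul, ← hz, hfx.2 q hq, htz, mul_smul, mul_smul, htz, D.smul_pt.2 (hPH hq)]
      exact ⟨rfl, hz.symm⟩
    have he := seven_unique (D.stab_bound hns hfx.1).2 hP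
      ((card_map_of_injective (K := P) (f := (MulAut.conj t).toMonoidHom) (MulAut.conj t).injective).trans hP)
      (D.le_stab hPH hfx.2) hconj
    show t * p * t⁻¹ ∈ P
    rw [he]
    exact ⟨p, hp, rfl⟩
  have hI : Nat.card I = f * 7 := by
    have h1 : ∀ t : I, t.1 • D.pt ∈ D.fixed P := fun t => by
      obtain ⟨t, ht, htN⟩ := t
      refine ⟨fun h => ?_, fun p hp => ?_⟩
      · have h2 := Subgroup.orderOf_dvd_natCard _ (Subgroup.mem_inf.2 ⟨htN, D.smul_pt.1 h⟩)
        rw [ht, D.card_normalizer_H hP hPH] at h2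
        norm_num at h2
      · have h3 : t⁻¹ * p * t ∈ P := by
          have := (mem_normalizer_iff.1 (inv_mem htN) p).1 hp
          simpa using this
        show p • (t • D.pt) = t • D.pt
        rw [← mul_smul, show p * t = t * (t⁻¹ * p * t) by group, mul_smul, D.smul_pt.2 (hPH h3)]
    let Ψ : (Σ z : ↥(D.fixed P), {i : G // orderOf i = 2 ∧ i • D.pt = z.1}) ≃ I :=
      { toFun := fun s => ⟨s.2.1, s.2.2.1, hsw _ s.2.2.1 (by rw [s.2.2.2]; exact s.1.2)⟩
        invFun := fun t => ⟨⟨t.1 • D.pt, h1 t⟩, t.1, t.2.1, rfl⟩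
        left_inv := by rintro ⟨⟨z, hz⟩, i, hi, rfl : _ = z⟩; rfl
        right_inv := fun _ => rfl }
    rw [← Nat.card_congr Ψ]
    have := Fintype.ofFinite ↥(D.fixed P)
    rw [Nat.card_sigma, Finset.sum_congr rfl (g := fun _ => 7) fun z _ =>
      (CfsgLib.TwoGroups.SE.card_swapping hSE D.pt z.1 (Ne.symm z.2.1)).trans D.card_inv_H,
      Finset.sum_const, Finset.card_univ, smul_eq_mul, hf, Nat.card_eq_fintype_card]
  obtain ⟨⟨t, ht, htN⟩⟩ : Nonempty I := (Nat.card_pos_iff.1 (by rw [hI]; omega)).1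
  have hX : ∀ x, x ∈ {x : G | orderOf x = 2 ∧ x ∈ N} ↔ ∃ y ∈ N, y * t * y⁻¹ = x := fun x =>
    ⟨fun h => D.conj_inv_normalizer hP htN ht h.2 h.1, by
      rintro ⟨y, hy, rfl⟩
      exact ⟨(CfsgLib.Signalizer.orderOf_conj y t).trans ht, mul_mem (mul_mem hy htN) (inv_mem hy)⟩⟩
  have h1 := card_orbit N t _ hX
  rw [hN1, show Nat.card ↥{x : G | orderOf x = 2 ∧ x ∈ N} = f * 7 from hI] at h1
  set d := Nat.card ↥(N ⊓ centralizer ({t} : Set G)) with hd
  have hd24 : d ∣ 24 := by
    have := Subgroup.card_dvd_of_le (inf_le_right : N ⊓ centralizer ({t} : Set G) ≤ _)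
    rwa [D.card_cent_inv ht] at this
  have hd4 : ¬ 4 ∣ d := fun h => D.not_four_dvd hP (h.trans (Subgroup.card_dvd_of_le inf_le_left))
  have hd2 : 2 ∣ d := by
    rw [← ht, hd]
    exact Subgroup.orderOf_dvd_natCard _
      (Subgroup.mem_inf.2 ⟨htN, mem_centralizer_singleton_iff.2 rfl⟩)
  have hle := Nat.le_of_dvd (by norm_num) hd24
  interval_cases d <;> omega

include hns in
/-- The index of `H` is nine. -/
theorem index_H : D.H.index = 9 := by
  classical
  let 𝒬 := Sylow 7 D.H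
  have hP : ∀ z : {z : G ⧸ D.H // z ≠ D.pt}, ∃ Q : 𝒬, (Q : Subgroup D.H).map D.H.subtype ≤ D.stab z.1 := by
    rintro ⟨z, hz⟩
    obtain ⟨P, hP, hle⟩ := D.exists_seven hns hz
    obtain ⟨Q, hQ⟩ := D.exists_sylow_eq hP (hle.trans inf_le_left)
    exact ⟨Q, hQ.le.trans hle⟩
  choose q hq using hP
  have hfix : ∀ Q : 𝒬, ∀ z : {z : G ⧸ D.H // z ≠ D.pt},
      (Q : Subgroup D.H).map D.H.subtype ≤ D.stab z.1 → z.1 ∈ D.fixed ((Q : Subgroup D.H).map D.H.subtype) :=
    fun Q z h => ⟨z.2, fun p hp => (D.mem_stab.1 (h hp)).2⟩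
  have hbij : Function.Bijective q := by
    refine ⟨fun z w h => ?_, fun Q => ?_⟩
    · have h1 := hfix _ z (hq z)
      have h2 := hfix _ w (hq w)
      rw [← h] at h2
      have hs : Subsingleton ↥(D.fixed ((q z : Subgroup D.H).map D.H.subtype)) :=
        (Nat.card_eq_one_iff_unique.1 (D.card_fixed hns (D.sylow_seven_card _) (map_subtype_le _))).1
      have h3 := congrArg Subtype.val (Subsingleton.elim (⟨z.1, h1⟩ : ↥(D.fixed _)) ⟨w.1, h2⟩)
      exact Subtype.ext h3
    · obtain ⟨⟨z, hz⟩⟩ := (Nat.card_eq_one_iff_unique.1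
        (D.card_fixed hns (D.sylow_seven_card Q) (map_subtype_le _))).2
      refine ⟨⟨z, hz.1⟩, Sylow.ext (Subgroup.map_injective (subtype_injective D.H) ?_)⟩
      exact seven_unique (D.stab_bound hns hz.1).2 (D.sylow_seven_card _) (D.sylow_seven_card _)
        (hq ⟨z, hz.1⟩) (D.le_stab (map_subtype_le _) hz.2)
  have h8 : Nat.card {z : G ⧸ D.H // z ≠ D.pt} = 8 := (Nat.card_eq_of_bijective q hbij).trans D.card_sylow_seven
  have := Fintype.ofFinite (G ⧸ D.H)
  rw [Nat.card_eq_fintype_card, Fintype.card_subtype_compl, Fintype.card_subtype_eq] at h8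
  rw [Subgroup.index, Nat.card_eq_fintype_card]
  omega

end Four

end CfsgLib.Recog.TwoTimesAlt
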