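import Cfsg.Agent.Lib.Recog.JanType.Setup
import Cfsg.Agent.Lib.Signalizer.Embedded
import Mathlib.GroupTheory.SpecificGroups.ZGroup

/-!
Owner: helper1. Centraliser `Z₂ × A₄` of a `2`-central involution with a fused conjugate in the `A₄`: a
strongly embedded `2`-local subgroup of order `168`.
-/

set_option autoImplicit false
set_option maxRecDepth 20000
set_option synthInstance.maxSize 2000
set_option synthInstance.maxHeartbeats 200000

namespace CfsgLib.Recog.TwoTimesAlt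

open Subgroup
open CfsgLib.Recog.JanType (exists_conj_into mem_sylow_of_normalizes conj_mem_of_le)

/-- The model of the centraliser. -/
abbrev Mdl4 : Type := Multiplicative (ZMod 2) × ↥(alternatingGroup (Fin 4))

/-- The central involution of the model. -/
def jM : Mdl4 := (Multiplicative.ofAdd 1, 1)

theorem sq_mul : ∀ x y : Mdl4, x * x = 1 → y * y = 1 → x * y * (x * y) = 1 := by decide +kernel

/-- The elementary abelian subgroup of order eight of the model. -/
def E4 : Subgroup Mdl4 where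
  carrier := {m | m * m = 1}
  mul_mem' := fun {x y} hx hy => sq_mul x y hx hy
  one_mem' := mul_one 1
  inv_mem' := fun {x} (hx : x * x = 1) => show x⁻¹ * x⁻¹ = 1 by rw [← mul_inv_rev, hx, inv_one]

theorem mem_E4 {m : Mdl4} : m ∈ E4 ↔ m * m = 1 := Iff.rfl

theorem card_E4 : Nat.card E4 = 8 := by
  rw [← Nat.card_congr (Equiv.subtypeEquivRight fun m => (mem_E4 (m := m)).symm), Nat.card_eq_fintype_card]
  decide +kernel

theorem card_E4_ne : Fintype.card {m : Mdl4 // m * m = 1 ∧ m ≠ 1} = 7 := by decide +kernel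

theorem card_E4_four :
    Fintype.card {m : Mdl4 // m * m = 1 ∧ m ≠ 1 ∧ (m = jM ∨ m.1 = 1)} = 4 := by decide +kernel

theorem card_Mdl4 : Fintype.card Mdl4 = 24 := by decide +kernel

theorem sq_comm : ∀ x y : Mdl4, x * x = 1 → y * y = 1 → x * y = y * x := by decide +kernel

theorem two_el : ∀ m : Mdl4, m ^ 8 = 1 → m * m = 1 := by decide +kernel

theorem E4_self : ∀ m : Mdl4, (∀ x : Mdl4, x * x = 1 → m * x = x * m) → m * m = 1 := by decide +kernel

theorem jM_facts : jM * jM = 1 ∧ jM ≠ 1 ∧ jM.1 ≠ 1 ∧ ∀ m : Mdl4, m * jM = jM * m := by decide +kernel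

theorem E4_trans : ∀ x y : Mdl4, x * x = 1 → y * y = 1 → x.2 ≠ 1 → y.2 ≠ 1 → x.1 = y.1 →
    ∃ m : Mdl4, m * x * m⁻¹ = y := by decide +kernel

theorem E4_cases : ∀ x : Mdl4, x.2 = 1 → x = 1 ∨ x = jM := by decide +kernel

theorem center_mdl4 : ∀ m : Mdl4, (∀ n : Mdl4, n * m = m * n) → m = 1 ∨ m = jM := by decide +kernel

/-- The hypothesis. -/
structure Four (G : Type*) [Group G] where
  J : G
  hJ : orderOf J = 2
  P : Sylow 2 G
  hJP : J ∈ P
  hP : ∀ x ∈ P, x * J = J * x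
  e : ↥(centralizer ({J} : Set G)) ≃* Mdl4
  g : G
  hgc : g * J * g⁻¹ ∈ centralizer ({J} : Set G)
  hg : (e ⟨g * J * g⁻¹, hgc⟩).1 = 1

namespace Four

variable {G : Type*} [Group G] (D : Four G)

/-- The embedding of the model. -/
def el : Mdl4 →* G := (centralizer ({D.J} : Set G)).subtype.comp D.e.symm.toMonoidHom

theorem el_injective : Function.Injective D.el := fun _ _ h => D.e.symm.injective (Subtype.ext h)

theorem el_mem (m : Mdl4) : D.el m ∈ centralizer ({D.J} : Set G) := (D.e.symm m).2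

theorem exists_el {x : G} (hx : x ∈ centralizer ({D.J} : Set G)) : ∃ m : Mdl4, D.el m = x :=
  ⟨D.e ⟨x, hx⟩, by simp [el]⟩

theorem J_ne_one : D.J ≠ 1 := fun h => by simpa [h] using D.hJ

theorem el_jM : D.el jM = D.J := by
  obtain ⟨m, hm⟩ := D.exists_el (mem_centralizer_singleton_iff.2 (rfl : D.J * D.J = D.J * D.J))
  rcases center_mdl4 m (fun n => D.el_injective (by
    rw [map_mul, map_mul, hm]
    exact mem_centralizer_singleton_iff.1 (D.el_mem n))) with rfl | rfl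
  · exact absurd (hm.symm.trans (map_one D.el)) D.J_ne_one
  · exact hm

/-- The Sylow subgroup. -/
def E : Subgroup G := E4.map D.el

theorem el_mem_E {m : Mdl4} : D.el m ∈ D.E ↔ m * m = 1 :=
  ⟨fun ⟨_, h, he⟩ => D.el_injective he ▸ h, fun h => ⟨m, h, rfl⟩⟩

theorem J_mem_E : D.J ∈ D.E := D.el_jM ▸ D.el_mem_E.2 jM_facts.1

theorem E_le_cent : D.E ≤ centralizer ({D.J} : Set G) := by
  rintro _ ⟨m, -, rfl⟩
  exact D.el_mem m

theorem E_comm {x y : G} (hx : x ∈ D.E) (hy : y ∈ D.E) : x * y = y * x := by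
  obtain ⟨a, ha, rfl⟩ := hx
  obtain ⟨b, hb, rfl⟩ := hy
  rw [← map_mul, ← map_mul, sq_comm a b ha hb]

theorem E_sq {x : G} (hx : x ∈ D.E) : x * x = 1 := by
  obtain ⟨a, ha, rfl⟩ := hx
  rw [← map_mul, mem_E4.1 ha, map_one]

theorem card_E : Nat.card D.E = 8 := by rw [E, card_map_of_injective D.el_injective, card_E4]

theorem orderOf_mem_E {x : G} (hx : x ∈ D.E) (h1 : x ≠ 1) : orderOf x = 2 :=
  orderOf_eq_prime (by rw [pow_two]; exact D.E_sq hx) h1

variable [Finite G]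

omit [Finite G] in
theorem card_cent : Nat.card ↥(centralizer ({D.J} : Set G)) = 24 := by
  rw [Nat.card_congr D.e.toEquiv, Nat.card_eq_fintype_card, card_Mdl4]

omit [Finite G] in
theorem E_isPGroup : IsPGroup 2 D.E := IsPGroup.of_card (n := 3) (by rw [D.card_E]; norm_num)

omit [Finite G] in
theorem P_eq : (D.P : Subgroup G) = D.E := by
  have : Fact (Nat.Prime 2) := ⟨Nat.prime_two⟩
  refine (D.P.is_maximal' D.E_isPGroup fun x hx => ?_).symm
  obtain ⟨m, rfl⟩ := D.exists_el (mem_centralizer_singleton_iff.2 (D.hP x hx))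
  refine D.el_mem_E.2 (two_el m ?_)
  obtain ⟨k, hk⟩ := IsPGroup.iff_orderOf.1 D.P.isPGroup' ⟨_, hx⟩
  rw [← Subgroup.orderOf_coe, orderOf_injective D.el D.el_injective] at hk
  have h1 : orderOf m ∣ 24 := by
    have := orderOf_dvd_natCard m
    rwa [Nat.card_eq_fintype_card, card_Mdl4] at this
  have h2 : orderOf m ∣ 8 := by
    rw [hk] at h1 ⊢
    exact ((Nat.Coprime.pow_left k (by norm_num : Nat.Coprime 2 3)).dvd_of_dvd_mul_right
      (show 2 ^ k ∣ 8 * 3 from h1))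
  exact orderOf_dvd_iff_pow_eq_one.1 h2

theorem cent_le_norm : centralizer ({D.J} : Set G) ≤ normalizer (D.E : Set G) := fun c hc => by
  obtain ⟨n, rfl⟩ := D.exists_el hc
  refine conj_mem_of_le ?_
  rintro _ ⟨m, hm, rfl⟩
  rw [← map_inv, ← map_mul, ← map_mul]
  refine D.el_mem_E.2 ?_
  calc n * m * n⁻¹ * (n * m * n⁻¹) = n * (m * m) * n⁻¹ := by group
    _ = 1 := by rw [mem_E4.1 hm]; group

omit [Finite G] in
theorem cent_E_le {x : G} (hx : ∀ y ∈ D.E, x * y = y * x) : x ∈ D.E := by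
  obtain ⟨m, rfl⟩ := D.exists_el (mem_centralizer_singleton_iff.2 (hx D.J D.J_mem_E))
  exact D.el_mem_E.2 (E4_self m fun y hy => D.el_injective (by
    rw [map_mul, map_mul]; exact hx _ (D.el_mem_E.2 hy)))

/-- Conjugates of `J` in `E` are conjugate under the normaliser of `E`. -/
theorem fuse {u : G} (hu : u ∈ D.E) (hc : IsConj D.J u) :
    ∃ h ∈ normalizer (D.E : Set G), h * D.J * h⁻¹ = u := by
  obtain ⟨a, ha⟩ := isConj_iff.1 hc
  have hQ : ((a • D.P : Sylow 2 G) : Subgroup G) ≤ centralizer ({u} : Set G) := by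
    intro y hy
    rw [Sylow.coe_subgroup_smul, Subgroup.mem_pointwise_smul_iff_inv_smul_mem] at hy
    have h2 : a⁻¹ * y * a * D.J = D.J * (a⁻¹ * y * a) :=
      D.hP _ (show a⁻¹ * y * a ∈ (D.P : Subgroup G) by simpa [MulAut.smul_def, MulAut.conj_inv_apply] using hy)
    rw [mem_centralizer_singleton_iff, ← ha]
    calc y * (a * D.J * a⁻¹) = a * (a⁻¹ * y * a * D.J) * a⁻¹ := by group
      _ = a * (D.J * (a⁻¹ * y * a)) * a⁻¹ := by rw [h2]
      _ = a * D.J * a⁻¹ * y := by group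
  obtain ⟨c, hcu, hcQ⟩ := exists_conj_into (a • D.P) D.E_isPGroup
    (fun x hx => mem_centralizer_singleton_iff.2 (D.E_comm hx hu)) hQ
  have hn : a⁻¹ * c ∈ normalizer (D.E : Set G) := conj_mem_of_le fun x hx => by
    have h3 := hcQ x hx
    rw [Sylow.coe_subgroup_smul, Subgroup.mem_pointwise_smul_iff_inv_smul_mem, D.P_eq] at h3
    simpa [MulAut.smul_def, MulAut.conj_inv_apply, mul_assoc] using h3
  refine ⟨c⁻¹ * a, by simpa using inv_mem hn, ?_⟩
  calc c⁻¹ * a * D.J * (c⁻¹ * a)⁻¹ = c⁻¹ * (a * D.J * a⁻¹) * c := by group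
    _ = u := by rw [ha, mul_assoc, ← mem_centralizer_singleton_iff.1 hcu, inv_mul_cancel_left]

/-- The normaliser of `E`. -/
def H : Subgroup G := normalizer (D.E : Set G)

/-- The stabiliser of an element in a subgroup, counted against its orbit. -/
theorem _root_.CfsgLib.Recog.TwoTimesAlt.card_orbit {G : Type*} [Group G] [Finite G] (Y : Subgroup G)
    (t : G) (X : Set G) (hX : ∀ x, x ∈ X ↔ ∃ y ∈ Y, y * t * y⁻¹ = x) :
    Nat.card Y = Nat.card X * Nat.card ↥(Y ⊓ centralizer ({t} : Set G)) := by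
  set C : Subgroup Y := (centralizer ({t} : Set G)).subgroupOf Y with hC
  have hiff : ∀ a b : Y, a⁻¹ * b ∈ C ↔ (a : G) * t * (a : G)⁻¹ = (b : G) * t * (b : G)⁻¹ := by
    intro a b
    rw [hC, mem_subgroupOf, mem_centralizer_singleton_iff]
    constructor
    · intro h
      calc (a : G) * t * (a : G)⁻¹ = a * (t * (((a⁻¹ * b : Y) : G))) * (b : G)⁻¹ := by
            rw [Subgroup.coe_mul, Subgroup.coe_inv]; group
        _ = a * (((a⁻¹ * b : Y) : G) * t) * (b : G)⁻¹ := by rw [h]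
        _ = _ := by rw [Subgroup.coe_mul, Subgroup.coe_inv]; group
    · intro h
      rw [Subgroup.coe_mul, Subgroup.coe_inv]
      calc (a : G)⁻¹ * b * t = (a : G)⁻¹ * ((b : G) * t * (b : G)⁻¹) * b := by group
        _ = t * ((a : G)⁻¹ * b) := by rw [← h]; group
  let f : Y ⧸ C → X := fun q => Quotient.liftOn' q (fun y => ⟨(y : G) * t * (y : G)⁻¹, (hX _).2 ⟨y, y.2, rfl⟩⟩)
    fun a b hab => Subtype.ext ((hiff a b).1 (QuotientGroup.leftRel_apply.1 hab))
  have hf : Function.Bijective f := by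
    refine ⟨fun p q => ?_, fun ⟨x, hx⟩ => ?_⟩
    · induction p using QuotientGroup.induction_on with
      | _ a =>
        induction q using QuotientGroup.induction_on with
        | _ b =>
          intro h
          exact QuotientGroup.eq.2 ((hiff a b).2 (congrArg Subtype.val h))
    · obtain ⟨y, hy, rfl⟩ := (hX x).1 hx
      exact ⟨((⟨y, hy⟩ : Y) : Y ⧸ C), rfl⟩
  rw [Subgroup.card_eq_card_quotient_mul_card_subgroup C, Nat.card_eq_of_bijective f hf,
    ← card_map_of_injective (K := C) (subtype_injective Y), hC, Subgroup.subgroupOf_map_subtype, inf_comm]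

theorem card_norm (X : Set G) (hX : ∀ x, x ∈ X ↔ ∃ y ∈ D.H, y * D.J * y⁻¹ = x) :
    Nat.card D.H = Nat.card X * 24 := by
  rw [card_orbit D.H D.J X hX, inf_eq_right.2 (show centralizer ({D.J} : Set G) ≤ D.H from D.cent_le_norm),
    D.card_cent]

omit [Finite G] in
theorem card_image (p : Mdl4 → Prop) [DecidablePred p] :
    Nat.card ↥(D.el '' {m | p m}) = Fintype.card {m // p m} := by
  rw [Nat.card_image_of_injective D.el_injective]
  exact Nat.card_eq_fintype_card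

/-- All involutions of `E` are conjugate to `J` under the normaliser. -/
theorem conj_of_mem {x : G} (hx : x ∈ D.E) (h1 : x ≠ 1) : ∃ h ∈ D.H, h * D.J * h⁻¹ = x := by
  have hconj : ∀ m n : Mdl4, (∃ h ∈ D.H, h * D.J * h⁻¹ = D.el m) → m * m = 1 → n * n = 1 →
      m.2 ≠ 1 → n.2 ≠ 1 → m.1 = n.1 → ∃ h ∈ D.H, h * D.J * h⁻¹ = D.el n := by
    rintro m n ⟨h, hh, he⟩ hm hn hm2 hn2 h12
    obtain ⟨k, hk⟩ := E4_trans m n hm hn hm2 hn2 h12
    refine ⟨D.el k * h, mul_mem (D.cent_le_norm (D.el_mem k)) hh, ?_⟩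
    calc D.el k * h * D.J * (D.el k * h)⁻¹ = D.el k * (h * D.J * h⁻¹) * (D.el k)⁻¹ := by group
      _ = D.el n := by rw [he, ← map_inv, ← map_mul, ← map_mul, hk]
  obtain ⟨v, hv⟩ := D.exists_el D.hgc
  have hv2 : v * v = 1 := D.el_injective (by
    rw [map_mul, hv, map_one, show D.g * D.J * D.g⁻¹ * (D.g * D.J * D.g⁻¹) = D.g * (D.J * D.J) * D.g⁻¹ by group,
      ← pow_two, ← D.hJ, pow_orderOf_eq_one]
    group)
  have hv1 : v.1 = 1 := by
    have h : D.e ⟨D.g * D.J * D.g⁻¹, D.hgc⟩ = v := by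
      rw [← D.e.apply_symm_apply v]
      exact congrArg D.e (Subtype.ext hv.symm)
    rw [← h]
    exact D.hg
  have hvs : v.2 ≠ 1 := fun h => by
    have : v = 1 := Prod.ext hv1 h
    rw [this, map_one] at hv
    exact D.J_ne_one (conj_eq_one_iff.1 hv.symm)
  have hvu : ∃ h ∈ D.H, h * D.J * h⁻¹ = D.el v :=
    D.fuse (D.el_mem_E.2 hv2) (isConj_iff.2 ⟨D.g, hv.symm⟩)
  obtain ⟨m, hm, rfl⟩ := hx
  have hm1 : m ≠ 1 := fun h => h1 (by rw [h, map_one])
  by_cases hw : ∃ w : Mdl4, w * w = 1 ∧ w ≠ jM ∧ w.1 ≠ 1 ∧ ∃ h ∈ D.H, h * D.J * h⁻¹ = D.el w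
  · obtain ⟨w, hw2, hwj, hw1, hwu⟩ := hw
    have hws : w.2 ≠ 1 := fun h => by
      rcases E4_cases w h with rfl | rfl
      · exact hw1 rfl
      · exact hwj rfl
    by_cases hms : m.2 = 1
    · rcases E4_cases m hms with rfl | rfl
      · exact absurd rfl hm1
      · exact ⟨1, one_mem _, by rw [D.el_jM]; group⟩
    · by_cases hm0 : m.1 = 1
      · exact hconj v m hvu hv2 hm hvs hms (hv1.trans hm0.symm)
      · refine hconj w m hwu hw2 hm hws hms ?_
        revert hm0 hw1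
        generalize w.1 = a
        generalize m.1 = b
        revert a b
        decide
  · exfalso
    push Not at hw
    have hcard : Nat.card D.H = 4 * 24 := by
      rw [D.card_norm (D.el '' {m | m * m = 1 ∧ m ≠ 1 ∧ (m = jM ∨ m.1 = 1)}) fun y => ?_, D.card_image,
        card_E4_four]
      constructor
      · rintro ⟨k, ⟨hk, hk1, hk2⟩, rfl⟩
        rcases hk2 with rfl | hk2
        · exact ⟨1, one_mem _, by rw [D.el_jM]; group⟩
        · refine hconj v k hvu hv2 hk hvs (fun h => hk1 (Prod.ext hk2 h)) (hv1.trans hk2.symm)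
      · rintro ⟨h, hh, rfl⟩
        obtain ⟨k, hk, hke⟩ := (mem_normalizer_iff.1 hh D.J).1 D.J_mem_E
        refine ⟨k, ⟨hk, fun h' => D.J_ne_one ?_, ?_⟩, hke⟩
        · rw [h', map_one] at hke
          exact conj_eq_one_iff.1 hke.symm
        · by_contra hne
          rw [not_or] at hne
          exact hw k hk hne.1 hne.2 h hh hke.symm
    have : Fact (Nat.Prime 2) := ⟨Nat.prime_two⟩
    obtain ⟨Q, hQ⟩ := Sylow.exists_subgroup_card_pow_prime 2 (G := D.H) (n := 5) (by rw [hcard]; norm_num)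
    obtain ⟨R, hR⟩ := (IsPGroup.of_card (n := 5) (by
      rw [card_map_of_injective (K := Q) (subtype_injective D.H), hQ]) : IsPGroup 2 (Q.map D.H.subtype)).exists_le_sylow
    have h := Subgroup.card_dvd_of_le hR
    rw [card_map_of_injective (K := Q) (subtype_injective D.H), hQ,
      Sylow.card_eq_multiplicity, ← Sylow.card_eq_multiplicity D.P, D.P_eq, D.card_E] at h
    norm_num at h

omit [Finite G] in
theorem card_E_ne : Nat.card {x : G // x ∈ D.E ∧ x ≠ 1} = 7 := by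
  have h : {x : G | x ∈ D.E ∧ x ≠ 1} = D.el '' {m | m * m = 1 ∧ m ≠ 1} := by
    ext x
    constructor
    · rintro ⟨⟨m, hm, rfl⟩, h1⟩
      exact ⟨m, ⟨hm, fun h => h1 (by rw [h, map_one])⟩, rfl⟩
    · rintro ⟨m, ⟨hm, h1⟩, rfl⟩
      exact ⟨D.el_mem_E.2 hm, fun h => h1 (D.el_injective (h.trans (map_one D.el).symm))⟩
  show Nat.card ↥{x : G | x ∈ D.E ∧ x ≠ 1} = 7
  rw [h, D.card_image, card_E4_ne]

theorem card_H : Nat.card D.H = 168 := by
  rw [D.card_norm {x | x ∈ D.E ∧ x ≠ 1} fun x => ?_,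
    show Nat.card ↥{x : G | x ∈ D.E ∧ x ≠ 1} = 7 from D.card_E_ne]
  exact ⟨fun h => D.conj_of_mem h.1 h.2, fun ⟨h, hh, he⟩ => he ▸ ⟨(mem_normalizer_iff.1 hh D.J).1 D.J_mem_E,
    fun h' => D.J_ne_one (conj_eq_one_iff.1 h')⟩⟩

omit [Finite G] in
theorem E_le_H : D.E ≤ D.H := le_normalizer

theorem exists_conj_E {x : G} (hx : orderOf x = 2) : ∃ c : G, c * x * c⁻¹ ∈ D.E := by
  have : Fact (Nat.Prime 2) := ⟨Nat.prime_two⟩
  obtain ⟨c, -, hc⟩ := exists_conj_into (Y := ⊤) D.P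
    (IsPGroup.of_card (n := 1) (by rw [Nat.card_zpowers, hx, pow_one]) : IsPGroup 2 (zpowers x)) le_top le_top
  exact ⟨c, D.P_eq ▸ hc x (mem_zpowers x)⟩

/-- All involutions are conjugate to `J`. -/
theorem conj_J {x : G} (hx : orderOf x = 2) : ∃ c : G, c * D.J * c⁻¹ = x := by
  obtain ⟨c, hc⟩ := D.exists_conj_E hx
  obtain ⟨h, -, he⟩ := D.conj_of_mem hc (fun h => by
    rw [conj_eq_one_iff.1 h, orderOf_one] at hx
    norm_num at hx)
  refine ⟨c⁻¹ * h, ?_⟩
  calc c⁻¹ * h * D.J * (c⁻¹ * h)⁻¹ = c⁻¹ * (h * D.J * h⁻¹) * c := by group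
    _ = x := by rw [he]; group

include D in
theorem card_cent_inv {x : G} (hx : orderOf x = 2) : Nat.card ↥(centralizer ({x} : Set G)) = 24 := by
  obtain ⟨c, rfl⟩ := D.conj_J hx
  suffices h : centralizer ({c * D.J * c⁻¹} : Set G) =
      (centralizer ({D.J} : Set G)).map (MulAut.conj c).toMonoidHom by
    rw [h, card_map_of_injective (K := centralizer ({D.J} : Set G))
      (f := (MulAut.conj c).toMonoidHom) (MulAut.conj c).injective, D.card_cent]
  refine SetLike.ext fun y => ⟨fun hy => ?_, ?_⟩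
  · refine ⟨c⁻¹ * y * c, mem_centralizer_singleton_iff.2 ?_, by simp [mul_assoc]⟩
    calc c⁻¹ * y * c * D.J = c⁻¹ * (y * (c * D.J * c⁻¹)) * c := by group
      _ = c⁻¹ * (c * D.J * c⁻¹ * y) * c := by rw [mem_centralizer_singleton_iff.1 hy]
      _ = _ := by group
  · rintro ⟨z, hz, rfl⟩
    rw [mem_centralizer_singleton_iff]
    show c * z * c⁻¹ * (c * D.J * c⁻¹) = c * D.J * c⁻¹ * (c * z * c⁻¹)
    calc c * z * c⁻¹ * (c * D.J * c⁻¹) = c * (z * D.J) * c⁻¹ := by group
      _ = c * (D.J * z) * c⁻¹ := by rw [mem_centralizer_singleton_iff.1 hz]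
      _ = _ := by group

theorem inv_mem_H {x : G} (hx : x ∈ D.H) (h2 : orderOf x = 2) : x ∈ D.E := by
  rw [← D.P_eq]
  exact mem_sylow_of_normalizes D.P (k := 1) (by rw [h2]; rfl) (by rw [D.P_eq]; exact hx)

theorem cent_le_H {x : G} (hx : x ∈ D.E) (h1 : x ≠ 1) : centralizer ({x} : Set G) ≤ D.H := by
  obtain ⟨h, hh, rfl⟩ := D.conj_of_mem hx h1
  intro y hy
  have h2 : h⁻¹ * y * h ∈ centralizer ({D.J} : Set G) := by
    rw [mem_centralizer_singleton_iff] at hy ⊢
    calc h⁻¹ * y * h * D.J = h⁻¹ * (y * (h * D.J * h⁻¹)) * h := by group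
      _ = h⁻¹ * (h * D.J * h⁻¹ * y) * h := by rw [hy]
      _ = _ := by group
  have h3 := mul_mem (mul_mem hh (D.cent_le_norm h2 : h⁻¹ * y * h ∈ D.H)) (inv_mem hh)
  simpa [mul_assoc] using h3

theorem H_ne_top (hns : ¬ Group.IsSolvable G) : D.H ≠ ⊤ := by
  intro htop
  have : D.E.Normal := normalizer_eq_top_iff.1 htop
  have : IsMulCommutative D.E := ⟨⟨fun a b => Subtype.ext (D.E_comm a.2 b.2)⟩⟩
  have hq : Nat.card (G ⧸ D.E) = 21 := by
    have h := Subgroup.card_eq_card_quotient_mul_card_subgroup D.E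
    rw [D.card_E, ← Nat.card_congr Subgroup.topEquiv.toEquiv, ← htop, D.card_H] at h
    omega
  have : IsZGroup (G ⧸ D.E) := IsZGroup.of_squarefree (by
    rw [hq, Nat.squarefree_iff_nodup_primeFactorsList (by norm_num)]
    simp)
  have : Group.IsSolvable D.E := Group.isSolvable_of_comm fun a b => Subtype.ext (D.E_comm a.2 b.2)
  have : Group.IsSolvable (G ⧸ D.E) := inferInstance
  exact hns (Group.isSolvable_of_ker_le_range D.E.subtype (QuotientGroup.mk' D.E)
    (by rw [QuotientGroup.ker_mk', Subgroup.range_subtype]))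

theorem stronglyEmbedded (hns : ¬ Group.IsSolvable G) : Cfsg.IsStronglyEmbedded D.H := by
  rw [CfsgLib.Signalizer.stronglyEmbedded_iff_conj]
  refine ⟨D.H_ne_top hns, even_iff_two_dvd.2 (by rw [D.card_H]; norm_num), fun t ht ht2 g hg => ?_⟩
  have htE := D.inv_mem_H ht ht2
  have hgE := D.inv_mem_H hg ((CfsgLib.Signalizer.orderOf_conj g t).trans ht2)
  have hne : ∀ y : G, orderOf y = 2 → y ≠ 1 := fun y hy h => by rw [h, orderOf_one] at hy; norm_num at hy
  obtain ⟨a, ha, hae⟩ := D.conj_of_mem htE (hne t ht2)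
  obtain ⟨b, hb, hbe⟩ := D.conj_of_mem hgE (hne _ ((CfsgLib.Signalizer.orderOf_conj g t).trans ht2))
  have h1 : b⁻¹ * g * a ∈ centralizer ({D.J} : Set G) := by
    rw [mem_centralizer_singleton_iff]
    calc b⁻¹ * g * a * D.J = b⁻¹ * (g * (a * D.J * a⁻¹) * g⁻¹) * g * a := by group
      _ = b⁻¹ * (b * D.J * b⁻¹) * g * a := by rw [hae, hbe]
      _ = _ := by group
  have h2 := mul_mem (mul_mem hb (D.cent_le_norm h1 : b⁻¹ * g * a ∈ D.H)) (inv_mem ha)
  simpa [mul_assoc] using h2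

end Four

end CfsgLib.Recog.TwoTimesAlt
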